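import Groth.Agent.H06Mod.StalkExact
import Groth.Agent.H29Omega.ConormalStalk
import Groth.Agent.H29Omega.StalkCompat
import Groth.Agent.H29Omega.ConormalDiffStalk
import Mathlib

/-!
# Kernels, images and subobjects of modules on stalks
-/

set_option autoImplicit false
universe u

open CategoryTheory CategoryTheory.Limits AlgebraicGeometry

namespace Groth.Agent.H17.KoszTwist

open Groth.Agent.H06Mod Groth.Agent.H29Omega

variable {X : Scheme.{u}} {A B C : X.Modules}

theorem stalkLin_zero (x : X) (a : A.presheaf.stalk x) : stalkLin (0 : A ⟶ B) x a = 0 := by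
  obtain ⟨U, hU, s, rfl⟩ := A.presheaf.exists_germ_eq a
  rw [stalkLin_germ]
  exact map_zero _

theorem stalk_injective_of_mono (m : A ⟶ B) [Mono m] (x : X) : Function.Injective (stalkLin m x) :=
  stalk_injective (ShortComplex.mk m (cokernel.π m) (cokernel.condition m))
    { exact := ShortComplex.exact_cokernel m } x

theorem range_stalk_of_mono (m : A ⟶ B) [Mono m] (x : X) :
    LinearMap.range (stalkLin m x) = LinearMap.ker (stalkLin (cokernel.π m) x) :=
  (LinearMap.exact_iff.1 (stalk_exact (ShortComplex.mk m (cokernel.π m) (cokernel.condition m))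
    { exact := ShortComplex.exact_cokernel m } x)).symm

theorem range_stalk_kernelι (φ : A ⟶ B) (x : X) :
    LinearMap.range (stalkLin (kernel.ι φ) x) = LinearMap.ker (stalkLin φ x) := by
  rw [range_stalk_of_mono]
  ext a
  rw [LinearMap.mem_ker, LinearMap.mem_ker]
  conv_rhs => rw [← Abelian.coimage.fac φ, stalkLin_comp]
  exact ⟨fun h => (congrArg (stalkLin (Abelian.factorThruCoimage φ) x) h).trans (map_zero _),
    fun h => stalk_injective_of_mono (Abelian.factorThruCoimage φ) x (h.trans (map_zero _).symm)⟩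

/-- A morphism with image inside that of a monomorphism factors through it. -/
theorem exists_fac (m : A ⟶ B) [Mono m] (φ : C ⟶ B)
    (h : ∀ x, LinearMap.range (stalkLin φ x) ≤ LinearMap.range (stalkLin m x)) : ∃ ψ, ψ ≫ m = φ := by
  refine ⟨_, Abelian.monoLift_comp m φ (eq_zero_of_stalkLin _ fun x a => ?_)⟩
  rw [stalkLin_comp, ← LinearMap.mem_ker, ← range_stalk_of_mono]
  exact h x ⟨a, rfl⟩

/-- Monomorphisms with the same image. -/
theorem exists_iso_fac (m : A ⟶ B) [Mono m] (n : C ⟶ B) [Mono n]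
    (h : ∀ x, LinearMap.range (stalkLin n x) = LinearMap.range (stalkLin m x)) :
    ∃ e : C ≅ A, e.hom ≫ m = n := by
  obtain ⟨ψ, hψ⟩ := exists_fac m n fun x => (h x).le
  obtain ⟨χ, hχ⟩ := exists_fac n m fun x => (h x).ge
  exact ⟨⟨ψ, χ, by rw [← cancel_mono n, Category.assoc, hχ, hψ, Category.id_comp],
    by rw [← cancel_mono m, Category.assoc, hψ, hχ, Category.id_comp]⟩, hψ⟩

theorem mono_of_stalk_injective (φ : A ⟶ B) (h : ∀ x, Function.Injective (stalkLin φ x)) : Mono φ := by
  refine Preadditive.mono_of_kernel_zero (eq_zero_of_stalkLin _ fun x a => h x ?_)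
  rw [map_zero, ← stalkLin_comp, kernel.condition]
  exact stalkLin_zero x a

theorem stalk_range_comp (φ : A ⟶ B) (ψ : B ⟶ C) (x : X) :
    LinearMap.range (stalkLin (φ ≫ ψ) x) = (LinearMap.range (stalkLin φ x)).map (stalkLin ψ x) := by
  ext c
  constructor
  · rintro ⟨a, rfl⟩; exact ⟨_, ⟨a, rfl⟩, (stalkLin_comp φ ψ x a).symm⟩
  · rintro ⟨_, ⟨a, rfl⟩, rfl⟩; exact ⟨a, stalkLin_comp φ ψ x a⟩

/-- Exactness on stalks, as an equality of submodules. -/
theorem range_eq_ker_of_exact (S : ShortComplex X.Modules) (hS : S.Exact) (x : X) :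
    LinearMap.range (stalkLin S.f x) = LinearMap.ker (stalkLin S.g x) := by
  haveI : Epi (kernel.lift S.g S.f S.zero) := S.exact_iff_epi_kernel_lift.1 hS
  rw [← range_stalk_kernelι S.g x]
  have h1 : stalkLin S.f x = stalkLin (kernel.lift S.g S.f S.zero ≫ kernel.ι S.g) x := by
    rw [kernel.lift_ι]
  rw [h1, stalk_range_comp, LinearMap.range_eq_top.2
    (surjective_stalk_of_epi (kernel.lift S.g S.f S.zero) x), Submodule.map_top]

theorem exact_of_range_eq_ker (S : ShortComplex X.Modules)
    (h : ∀ x, LinearMap.ker (stalkLin S.g x) ≤ LinearMap.range (stalkLin S.f x)) : S.Exact := by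
  rw [S.exact_iff_epi_kernel_lift]
  refine epi_of_surjective_stalkLin _ fun x a => ?_
  obtain ⟨b, hb⟩ := h x ((range_stalk_kernelι S.g x).le ⟨a, rfl⟩)
  refine ⟨b, stalk_injective_of_mono (kernel.ι S.g) x ?_⟩
  rw [← stalkLin_comp, kernel.lift_ι]
  exact hb

/-- Two morphisms with the same image have isomorphic cokernels. -/
theorem nonempty_cokernel_iso {A' : X.Modules} (f : A ⟶ B) (g : A' ⟶ B)
    (h : ∀ x, LinearMap.range (stalkLin f x) = LinearMap.range (stalkLin g x)) :
    Nonempty (cokernel f ≅ cokernel g) := by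
  have hk : ∀ {P Q : X.Modules} (f : P ⟶ B) (g : Q ⟶ B),
      (∀ x, LinearMap.range (stalkLin f x) ≤ LinearMap.range (stalkLin g x)) → f ≫ cokernel.π g = 0 := by
    intro P Q f g h
    refine eq_zero_of_stalkLin _ fun x a => ?_
    obtain ⟨b, hb⟩ := h x ⟨a, rfl⟩
    rw [stalkLin_comp, ← hb, ← stalkLin_comp, cokernel.condition]
    exact stalkLin_zero x b
  refine ⟨⟨cokernel.desc f (cokernel.π g) (hk f g fun x => (h x).le),
    cokernel.desc g (cokernel.π f) (hk g f fun x => (h x).ge), ?_, ?_⟩⟩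
  · rw [← cancel_epi (cokernel.π f)]; simp
  · rw [← cancel_epi (cokernel.π g)]; simp

end Groth.Agent.H17.KoszTwist
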