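import Groth.Agent.H17.KoszTwist.Terms
import Groth.Agent.H16Derived.ProjFormula.ClosedImm
import Groth.Agent.H29Blow.Stalk
import Mathlib

/-!
# Restriction to an effective Cartier divisor on stalks, and regularity on stalks
-/

set_option autoImplicit false
set_option linter.style.haveILetI false
universe u

open CategoryTheory CategoryTheory.Limits AlgebraicGeometry Opposite TopologicalSpace TensorProduct

noncomputable section

attribute [local instance] Groth.Agent.H06Mod.stalkAlgebra

namespace Groth.Agent.H17.KoszTwist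

open Groth.Agent.H06Mod Groth.Agent.H29Omega

variable {X : Scheme.{u}} {n : ℕ} {IY : Fin n → X.IdealSheafData} {ID : X.IdealSheafData}

theorem mem_span_smul {R M : Type*} [CommRing R] [AddCommGroup M] [Module R M] {y : R} {N : Submodule R M} {a : M} :
    a ∈ Ideal.span {y} • N ↔ ∃ b ∈ N, y • b = a := by
  rw [Submodule.ideal_span_singleton_smul, Submodule.mem_smul_pointwise_iff_exists]

/-- Regularity of `x` on sections over all smaller affines gives regularity on the stalk. -/
theorem isSMulRegular_stalk (M : X.Modules) {V : X.affineOpens} (x : Γ(X, V.1)) {p : X} (hp : p ∈ V.1)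
    (h : ∀ (V' : X.affineOpens) (h : V'.1 ≤ V.1), IsSMulRegular Γ(M, V'.1) (X.presheaf.map (homOfLE h).op x)) :
    IsSMulRegular (M.presheaf.stalk p) (X.presheaf.germ V.1 p hp x) := by
  intro a c hac
  refine sub_eq_zero.1 ?_
  obtain ⟨W, hW, s, hs⟩ := M.presheaf.exists_germ_eq (a - c)
  let x' := X.presheaf.map (homOfLE (inf_le_right : W ⊓ V.1 ≤ V.1)).op x
  let s' := M.presheaf.map (homOfLE (inf_le_left : W ⊓ V.1 ≤ W)).op s
  have hpW : p ∈ W ⊓ V.1 := ⟨hW, hp⟩
  have h0 : M.presheaf.germ (W ⊓ V.1) p hpW (x' • s') = M.presheaf.germ (W ⊓ V.1) p hpW 0 := by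
    rw [H06Mod.germ_smul, TopCat.Presheaf.germ_res_apply, TopCat.Presheaf.germ_res_apply, hs, map_zero,
      smul_sub, sub_eq_zero]
    exact hac
  obtain ⟨W', hpW', i₁, i₂, hW'⟩ := M.presheaf.germ_eq p hpW hpW _ _ h0
  obtain ⟨V', hV', hpV', hle⟩ := exists_isAffineOpen_mem_and_subset (x := p) (U := W') hpW'
  have hleW : (⟨V', hV'⟩ : X.affineOpens).1 ≤ W ⊓ V.1 := fun z hz => (leOfHom i₁) (hle hz)
  have h1 := congrArg (M.presheaf.map (homOfLE hle : V' ⟶ W').op) hW'
  simp only [map_zero, ← ConcreteCategory.comp_apply, ← Functor.map_comp, ← op_comp] at h1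
  rw [show (homOfLE hle : V' ⟶ W') ≫ i₁ = homOfLE hleW from rfl, Scheme.Modules.map_smul] at h1
  have hx : X.presheaf.map (homOfLE hleW).op x' =
      X.presheaf.map (homOfLE (hleW.trans inf_le_right : V' ≤ V.1)).op x := by
    rw [← ConcreteCategory.comp_apply, ← Functor.map_comp, ← op_comp]
    rfl
  rw [hx] at h1
  have h3 := h ⟨V', hV'⟩ (hleW.trans inf_le_right) (h1.trans (smul_zero _).symm)
  rw [← hs, ← TopCat.Presheaf.germ_res_apply _ (homOfLE (inf_le_left : W ⊓ V.1 ≤ W)) p hpW,
    ← TopCat.Presheaf.germ_res_apply _ (homOfLE hleW) p hpV']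
  exact (congrArg (M.presheaf.germ V' p hpV') h3).trans (map_zero _)

theorem isSMulRegular_stalk_of_hreg (M : X.Modules) (ID : X.IdealSheafData)
    (hreg : ∀ (U : X.affineOpens) (x : Γ(X, U.1)), x ∈ nonZeroDivisors Γ(X, U.1) → ID.ideal U = Ideal.span {x} →
      IsSMulRegular Γ(M, U.1) x)
    {V : X.affineOpens} {g : Fin n → Γ(X, V.1)} {x : Γ(X, V.1)} (hc : IsChart IY ID V g x) {p : X} (hp : p ∈ V.1) :
    IsSMulRegular (M.presheaf.stalk p) (X.presheaf.germ V.1 p hp x) :=
  isSMulRegular_stalk M x hp fun V' h => hreg V' _ (hc.res h).x_mem (hc.res h).x_span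

theorem germ_mem_nonZeroDivisors {V : X.affineOpens} {x : Γ(X, V.1)} (hx : x ∈ nonZeroDivisors Γ(X, V.1))
    {p : X} (hp : p ∈ V.1) : X.presheaf.germ V.1 p hp x ∈ nonZeroDivisors (X.presheaf.stalk p) := by
  letI := X.presheaf.algebra_section_stalk (⟨p, hp⟩ : V.1)
  haveI := V.2.isLocalization_stalk ⟨p, hp⟩
  haveI : Module.Flat Γ(X, V.1) (X.presheaf.stalk p) :=
    IsLocalization.flat _ (V.2.primeIdealOf ⟨p, hp⟩).asIdeal.primeCompl
  have hr : IsSMulRegular Γ(X, V.1) x := fun b c hbc => by
    refine sub_eq_zero.1 ((mem_nonZeroDivisors_iff_right.1 hx) _ ?_)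
    rw [sub_mul, sub_eq_zero, mul_comm b, mul_comm c]
    exact hbc
  have hs := IsSMulRegular.of_flat (S := X.presheaf.stalk p) hr
  rw [mem_nonZeroDivisors_iff_right]
  intro z hz
  refine hs ?_
  show algebraMap Γ(X, V.1) _ x * z = algebraMap Γ(X, V.1) _ x * 0
  rw [mul_zero, mul_comm]
  exact hz

theorem genAt_idealModι {V : X.affineOpens} {x : Γ(X, V.1)} (hx : x ∈ nonZeroDivisors Γ(X, V.1))
    (hI : ID.ideal V = Ideal.span {x}) {p : X} (hp : p ∈ V.1) :
    GenAt (ClSub.idealModι ID) p (X.presheaf.germ V.1 p hp x) := by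
  obtain ⟨e, he, -⟩ := exists_gen_sections ID V hx hI
  refine ⟨fun W hW m => ?_, ⟨V.1, hp, e, congrArg (X.presheaf.germ V.1 p hp) he⟩⟩
  obtain ⟨V', hV', hpV', hle⟩ := exists_isAffineOpen_mem_and_subset (x := p) (U := W ⊓ V.1) ⟨hW, hp⟩
  have hW' : V' ≤ W := fun z hz => (hle hz).1
  have hVV : (⟨V', hV'⟩ : X.affineOpens).1 ≤ V.1 := fun z hz => (hle hz).2
  have hm : OmegaSh.idealSect ID V' ((ClSub.idealMod ID).presheaf.map (homOfLE hW').op m) ∈ ID.ideal ⟨V', hV'⟩ :=
    (H29Blow.mem_ideal_iff_exists_idealSect ID hV' _).2 ⟨_, rfl⟩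
  rw [span_res ID hVV hI, Ideal.mem_span_singleton'] at hm
  obtain ⟨r, hr⟩ := hm
  refine Ideal.mem_span_singleton'.2 ⟨X.presheaf.germ V' p hpV' r, ?_⟩
  rw [← TopCat.Presheaf.germ_res_apply X.presheaf (homOfLE hVV) p hpV', ← map_mul, hr]
  show X.presheaf.germ V' p hpV' (OmegaSh.fnSect X V' ((ClSub.idealModι ID).app V'
    ((ClSub.idealMod ID).presheaf.map (homOfLE hW').op m))) = _
  rw [fnSect_res, TopCat.Presheaf.germ_res_apply]

variable (ID) in
/-- The canonical map to the restriction to `D`. -/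
abbrev η (M : X.Modules) : M ⟶ (Scheme.Modules.pullback ID.subschemeι ⋙ Scheme.Modules.pushforward ID.subschemeι).obj M :=
  (Scheme.Modules.pullbackPushforwardAdjunction ID.subschemeι).unit.app M

/-- The unit is surjective on stalks, with kernel `ξ M`. -/
theorem stalk_η {V : X.affineOpens} {x : Γ(X, V.1)} (hI : ID.ideal V = Ideal.span {x}) {p : X} (hp : p ∈ V.1)
    (M : X.Modules) :
    Function.Surjective (stalkLin (η ID M) p) ∧
      LinearMap.ker (stalkLin (η ID M) p) =
        Ideal.span {X.presheaf.germ V.1 p hp x} • (⊤ : Submodule _ (M.presheaf.stalk p)) := by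
  by_cases hpD : p ∈ Set.range ID.subschemeι.base
  · obtain ⟨d, rfl⟩ := hpD
    let f := ID.subschemeι
    let ξ := X.presheaf.germ V.1 (f.base d) hp x
    have hker : RingHom.ker (f.stalkMap d).hom = Ideal.span {ξ} := by
      rw [H29Blow.ker_stalkMap_subschemeι _ d V hp, hI, Ideal.map_span, Set.image_singleton]
    have hcomp : ∀ a, H16Derived.ProjFormula.pushStalk f _ d (stalkLin (η ID M) (f.base d) a) =
        pullStalk f M d a := fun a => H16Derived.ProjFormula.pushStalk_unit f M d a
    have hbij := H16Derived.ProjFormula.pushStalk_bijective f ((Scheme.Modules.pullback f).obj M) d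
    let A := X.presheaf.stalk (f.base d)
    let B := ID.subscheme.presheaf.stalk d
    let N := M.presheaf.stalk (f.base d)
    have hsurj : Function.Surjective (f.stalkMap d).hom := f.stalkMap_surjective d
    have hpull : ∀ m : N, pullStalk f M d m = pullStalkEquiv f M d ((1 : B) ⊗ₜ[A] m) := fun m =>
      ((pullStalkLin_tmul f M d 1 m).trans (one_smul _ _)).symm
    refine ⟨fun b => ?_, le_antisymm (fun m hm => ?_) ?_⟩
    · obtain ⟨t, ht⟩ := (pullStalkEquiv f M d).surjective (H16Derived.ProjFormula.pushStalk f _ d b)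
      have : ∀ t : B ⊗[A] N, ∃ m : N, (1 : B) ⊗ₜ[A] m = t := fun t => by
        induction t using TensorProduct.induction_on with
        | zero => exact ⟨0, TensorProduct.tmul_zero _ _⟩
        | add a b ha hb =>
          obtain ⟨m, rfl⟩ := ha
          obtain ⟨m', rfl⟩ := hb
          exact ⟨m + m', TensorProduct.tmul_add _ _ _⟩
        | tmul r m =>
          obtain ⟨s, rfl⟩ := hsurj r
          refine ⟨s • m, ?_⟩
          rw [TensorProduct.tmul_smul, TensorProduct.smul_tmul', Algebra.smul_def, mul_one]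
          rfl
      obtain ⟨m, hm⟩ := this t
      refine ⟨m, hbij.1 ?_⟩
      rw [hcomp, hpull, hm]
      exact ht
    · have h0 : (1 : B) ⊗ₜ[A] (m : N) = 0 := (pullStalkEquiv f M d).injective (by
        rw [← hpull, ← hcomp, LinearMap.mem_ker.1 hm, map_zero, map_zero])
      let S : Submodule A N := Ideal.span {ξ} • ⊤
      let g := Function.surjInv hsurj
      have hg : ∀ b, (f.stalkMap d).hom (g b) = b := Function.surjInv_eq hsurj
      have key : ∀ r s : A, (f.stalkMap d).hom r = (f.stalkMap d).hom s → ∀ m : N, r • S.mkQ m = s • S.mkQ m :=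
        fun r s hrs m => sub_eq_zero.1 (by
          rw [← sub_smul, ← map_smul, Submodule.mkQ_apply, Submodule.Quotient.mk_eq_zero]
          refine Submodule.smul_mem_smul ?_ Submodule.mem_top
          rw [← hker, RingHom.mem_ker, map_sub, hrs, sub_self])
      let back : B ⊗[A] N →ₗ[A] N ⧸ S := TensorProduct.lift
        { toFun := fun b => g b • S.mkQ
          map_add' := fun b c => LinearMap.ext fun m => by
            show g (b + c) • S.mkQ m = g b • S.mkQ m + g c • S.mkQ m
            rw [← add_smul]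
            exact key _ _ (by rw [map_add, hg, hg, hg]) m
          map_smul' := fun s b => LinearMap.ext fun m => by
            show g (s • b) • S.mkQ m = s • g b • S.mkQ m
            rw [smul_smul]
            exact key _ _ (by rw [map_mul, hg, hg, Algebra.smul_def]; rfl) m }
      have h1 : g 1 • S.mkQ m = 0 := (congrArg back h0).trans (map_zero _)
      rw [key (g 1) 1 (by rw [hg, map_one]) m, one_smul, Submodule.mkQ_apply, Submodule.Quotient.mk_eq_zero] at h1
      exact h1
    · rw [Submodule.smul_le]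
      intro r hr m _
      rw [LinearMap.mem_ker]
      refine hbij.1 ?_
      rw [hcomp, pullStalk_smul, show (f.stalkMap d).hom r = 0 by rwa [← RingHom.mem_ker, hker], zero_smul, map_zero]
  · haveI := H16Derived.ProjFormula.subsingleton_stalk_push ID.subschemeι
      ((Scheme.Modules.pullback ID.subschemeι).obj M) p hpD
    have hu : IsUnit (X.presheaf.germ V.1 p hp x) := by
      rw [← Scheme.mem_basicOpen X x p hp]
      by_contra hb
      refine hpD ?_
      rw [Scheme.IdealSheafData.range_subschemeι]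
      refine ((ID.coe_support_inter V).ge ⟨?_, hp⟩).1
      rw [hI, Scheme.mem_zeroLocus_iff]
      intro a ha hmem
      obtain ⟨c, rfl⟩ := Ideal.mem_span_singleton'.1 ha
      rw [Scheme.basicOpen_mul] at hmem
      exact hb hmem.2
    refine ⟨fun b => ⟨0, @Subsingleton.elim _ this _ _⟩, ?_⟩
    rw [Ideal.span_singleton_eq_top.2 hu, Submodule.top_smul]
    exact eq_top_iff.2 fun m _ => LinearMap.mem_ker.2 (@Subsingleton.elim _ this _ _)

end Groth.Agent.H17.KoszTwist
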