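import Groth.Agent.H17.KoszTwist.Mult
import Groth.Agent.H17.KoszSh.Functorial
import Groth.Agent.H29Blow.IdealMod
import Groth.Agent.H10Coh.FinType
import Mathlib

/-!
# The Koszul terms of a twisted family of effective Cartier divisors
-/

set_option autoImplicit false
set_option linter.style.haveILetI false
universe u

open CategoryTheory CategoryTheory.Limits AlgebraicGeometry Opposite TopologicalSpace exteriorPower

noncomputable section

namespace Groth.Agent.H17.KoszTwist

open Groth.Agent.H06Mod Groth.Agent.H29Omega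
open Groth.Agent.H17.KoszSh (appL locMap)

variable {X : Scheme.{u}} {n : ℕ} (IY : Fin n → X.IdealSheafData) (ID : X.IdealSheafData)

theorem exists_idealModMap {J I : X.IdealSheafData} (h : J ≤ I) :
    ∃ f : ClSub.idealMod J ⟶ ClSub.idealMod I, f ≫ ClSub.idealModι I = ClSub.idealModι J := by
  refine ⟨kernel.lift (ClSub.toSubscheme I) (ClSub.idealModι J) (AffHom.hom_ext fun U z => ?_),
    kernel.lift_ι _ _ _⟩
  obtain ⟨m, hm⟩ := (H29Blow.mem_ideal_iff_exists_idealSect I U.2 _).1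
    (h U ((H29Blow.mem_ideal_iff_exists_idealSect J U.2 _).2 ⟨z, rfl⟩))
  show (ClSub.toSubscheme I).app U.1 ((ClSub.idealModι J).app U.1 z) = 0
  rw [show (ClSub.idealModι J).app U.1 z = (ClSub.idealModι I).app U.1 m from hm.symm]
  show (ClSub.idealModι I ≫ ClSub.toSubscheme I).app U.1 m = 0
  rw [show ClSub.idealModι I ≫ ClSub.toSubscheme I = 0 from kernel.condition _]
  rfl

/-- The inclusion `⊕ I_i I_D ⊆ ⊕ I_i`. -/
theorem exists_sumMap :
    ∃ f : (∐ fun i => ClSub.idealMod (IY i * ID)) ⟶ ∐ fun i => ClSub.idealMod (IY i),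
      ∀ i, ∃ fi : ClSub.idealMod (IY i * ID) ⟶ ClSub.idealMod (IY i),
        fi ≫ ClSub.idealModι (IY i) = ClSub.idealModι (IY i * ID) ∧
        Limits.Sigma.ι (fun i => ClSub.idealMod (IY i * ID)) i ≫ f = fi ≫ Limits.Sigma.ι (fun i => ClSub.idealMod (IY i)) i := by
  choose fi hfi using fun i => exists_idealModMap (J := IY i * ID) (I := IY i)
    (fun U => (congrFun (Scheme.IdealSheafData.ideal_mul (I := IY i) (J := ID)) U).trans_le Ideal.mul_le_left)
  exact ⟨Limits.Sigma.map fi, fun i => ⟨fi i, hfi i, Limits.Sigma.ι_map _ _⟩⟩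

/-- A chart: an affine open where all the ideals are principal on non-zero-divisors. -/
structure IsChart (V : X.affineOpens) (g : Fin n → Γ(X, V.1)) (x : Γ(X, V.1)) : Prop where
  g_mem : ∀ i, g i ∈ nonZeroDivisors Γ(X, V.1)
  x_mem : x ∈ nonZeroDivisors Γ(X, V.1)
  g_span : ∀ i, (IY i).ideal V = Ideal.span {g i}
  x_span : ID.ideal V = Ideal.span {x}

theorem nzd_res {U V : X.affineOpens} (h : V.1 ≤ U.1) {a : Γ(X, U.1)} (ha : a ∈ nonZeroDivisors Γ(X, U.1)) :
    X.presheaf.map (homOfLE h).op a ∈ nonZeroDivisors Γ(X, V.1) := by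
  letI : Algebra Γ(X, U.1) Γ(X, V.1) := (X.presheaf.map (homOfLE h).op).hom.toAlgebra
  haveI : Module.Flat Γ(X, U.1) Γ(X, V.1) := by
    have hfl := Scheme.Hom.flat_appLE (𝟙 X) U.2 V.2 h
    simp only [Scheme.Hom.appLE, Scheme.Hom.id_app] at hfl
    exact hfl
  have hr : IsSMulRegular Γ(X, U.1) a := fun b c hbc => by
    refine sub_eq_zero.1 ((mem_nonZeroDivisors_iff_right.1 ha) _ ?_)
    rw [sub_mul, sub_eq_zero, mul_comm b, mul_comm c]
    exact hbc
  have hV := IsSMulRegular.of_flat (S := Γ(X, V.1)) hr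
  rw [mem_nonZeroDivisors_iff_right]
  intro z hz
  refine hV ?_
  show algebraMap Γ(X, U.1) Γ(X, V.1) a * z = algebraMap Γ(X, U.1) Γ(X, V.1) a * 0
  rw [mul_zero, mul_comm]
  exact hz

theorem span_res (I : X.IdealSheafData) {U V : X.affineOpens} (h : V.1 ≤ U.1) {a : Γ(X, U.1)}
    (ha : I.ideal U = Ideal.span {a}) : I.ideal V = Ideal.span {X.presheaf.map (homOfLE h).op a} := by
  rw [← I.map_ideal (U := V) (V := U) h, ha, Ideal.map_span, Set.image_singleton]
  rfl

variable {IY ID}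

theorem IsChart.res {U V : X.affineOpens} {g : Fin n → Γ(X, U.1)} {x : Γ(X, U.1)} (hc : IsChart IY ID U g x)
    (h : V.1 ≤ U.1) :
    IsChart IY ID V (fun i => X.presheaf.map (homOfLE h).op (g i)) (X.presheaf.map (homOfLE h).op x) :=
  ⟨fun i => nzd_res h (hc.g_mem i), nzd_res h hc.x_mem, fun i => span_res _ h (hc.g_span i),
    span_res _ h hc.x_span⟩

theorem exists_chart (hY : ∀ i, BlowUp.IsEffCartierIdeal (IY i)) (hD : BlowUp.IsEffCartierIdeal ID) (p : X) :
    ∃ (V : X.affineOpens) (g : Fin n → Γ(X, V.1)) (x : Γ(X, V.1)), p ∈ V.1 ∧ IsChart IY ID V g x := by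
  choose U hpU f hf hIU using fun i => hY i p
  obtain ⟨U₀, hpU₀, f₀, hf₀, hIU₀⟩ := hD p
  obtain ⟨V, hV, hpV, hVle⟩ := exists_isAffineOpen_mem_and_subset (x := p)
    (U := U₀.1 ⊓ Finset.univ.inf fun i => (U i).1) ⟨hpU₀, by
      suffices h : ∀ s : Finset (Fin n), p ∈ s.inf fun i => (U i).1 from h _
      intro s
      induction s using Finset.induction with
      | empty => simp
      | insert a s _ ih => rw [Finset.inf_insert]; exact ⟨hpU a, ih⟩⟩
  have h0 : V ≤ U₀.1 := fun a ha => (hVle ha).1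
  have hi : ∀ i, V ≤ (U i).1 := fun i a ha =>
    (Finset.inf_le (f := fun i => (U i).1) (Finset.mem_univ i)) (hVle ha).2
  exact ⟨⟨V, hV⟩, fun i => X.presheaf.map (homOfLE (hi i)).op (f i), X.presheaf.map (homOfLE h0).op f₀, hpV,
    fun i => nzd_res (hi i) (hf i), nzd_res (V := ⟨V, hV⟩) h0 hf₀,
    fun i => span_res _ (hi i) (hIU i), span_res _ (V := ⟨V, hV⟩) h0 hIU₀⟩

/-- Sections of an ideal module with principal ideal. -/
theorem exists_gen_sections (I : X.IdealSheafData) (V : X.affineOpens) {a : Γ(X, V.1)}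
    (ha : a ∈ nonZeroDivisors Γ(X, V.1)) (hI : I.ideal V = Ideal.span {a}) :
    ∃ e : Γ(ClSub.idealMod I, V.1), OmegaSh.idealSect I V.1 e = a ∧
      Function.Bijective fun r : Γ(X, V.1) => r • e := by
  obtain ⟨e, he⟩ := (H29Blow.mem_ideal_iff_exists_idealSect I V.2 a).1 (hI ▸ Ideal.mem_span_singleton_self a)
  refine ⟨e, he, fun r r' h => ?_, fun m => ?_⟩
  · have := congrArg (OmegaSh.idealSect I V.1) h
    rw [H29Blow.idealSect_smul, H29Blow.idealSect_smul, he] at this
    refine sub_eq_zero.1 ((mem_nonZeroDivisors_iff_right.1 ha) _ ?_)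
    rw [sub_mul, this, sub_self]
  · have hm : OmegaSh.idealSect I V.1 m ∈ I.ideal V := (H29Blow.mem_ideal_iff_exists_idealSect I V.2 _).2 ⟨m, rfl⟩
    rw [hI, Ideal.mem_span_singleton'] at hm
    obtain ⟨r, hr⟩ := hm
    refine ⟨r, H29Blow.idealSect_injective I V.1 ?_⟩
    rw [H29Blow.idealSect_smul, he, hr]

/-- Sections of a finite sum. -/
theorem exists_sigma_basis (F : Fin n → X.Modules) (V : X.Opens) (e : ∀ i, Γ(F i, V))
    (he : ∀ i, Function.Bijective fun r : Γ(X, V) => r • e i) :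
    ∃ b : Module.Basis (Fin n) Γ(X, V) Γ(∐ F, V), ∀ i, b i = (Limits.Sigma.ι F i).app V (e i) := by
  classical
  let π : ∀ i, (∐ F) ⟶ F i := fun i => Limits.Sigma.desc fun j => if h : j = i then eqToHom (congrArg F h) else 0
  have hself : ∀ i, Limits.Sigma.ι F i ≫ π i = 𝟙 _ := fun i => by simp [π]
  have hne : ∀ i j, j ≠ i → Limits.Sigma.ι F j ≫ π i = 0 := fun i j h => by simp [π, h]
  have hsum : ∑ i, π i ≫ Limits.Sigma.ι F i = 𝟙 (∐ F) := by
    refine Limits.Sigma.hom_ext _ _ fun j => ?_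
    rw [Preadditive.comp_sum, Finset.sum_eq_single j, ← Category.assoc, hself, Category.id_comp, Category.comp_id]
    · intro i _ h
      rw [← Category.assoc, hne i j (Ne.symm h), zero_comp]
    · simp
  have hπ : ∀ i j, (π i).app V ((Limits.Sigma.ι F j).app V (e j)) = if h : j = i then h ▸ e j else 0 := by
    intro i j
    show (Limits.Sigma.ι F j ≫ π i).app V (e j) = _
    by_cases h : j = i
    · subst h; rw [hself, dif_pos rfl]; rfl
    · rw [hne i j h, dif_neg h]; rfl
  let G : (Fin n → Γ(X, V)) →ₗ[Γ(X, V)] Γ(∐ F, V) :=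
    Fintype.linearCombination Γ(X, V) (fun i => (Limits.Sigma.ι F i).app V (e i))
  have hG : ∀ r, G r = ∑ i, r i • (Limits.Sigma.ι F i).app V (e i) := fun r =>
    Fintype.linearCombination_apply _ _ _
  have hb : Function.Bijective G := by
    constructor
    · intro r r' h
      funext i
      have h' := congrArg ((π i).app V) h
      simp only [hG, map_sum, Scheme.Modules.Hom.app_smul, hπ, smul_dite, smul_zero, Finset.sum_dite_eq',
        Finset.mem_univ, if_true] at h'
      exact (he i).1 h'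
    · intro z
      choose r hr using fun i => (he i).2 ((π i).app V z)
      refine ⟨r, ?_⟩
      rw [hG]
      have hz : z = ∑ i, (Limits.Sigma.ι F i).app V ((π i).app V z) := by
        conv_lhs => rw [show z = (𝟙 (∐ F) : (∐ F) ⟶ ∐ F).app V z from rfl, ← hsum]
        exact H10Coh.app_sum_apply _ V z
      conv_rhs => rw [hz]
      refine Finset.sum_congr rfl fun i _ => ?_
      rw [← Scheme.Modules.Hom.app_smul]
      exact congrArg ((Limits.Sigma.ι F i).app V) (hr i)
  refine ⟨(Pi.basisFun Γ(X, V) (Fin n)).map (LinearEquiv.ofBijective G hb), fun i => ?_⟩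
  rw [Module.Basis.map_apply, LinearEquiv.ofBijective_apply, Pi.basisFun_apply, hG,
    Finset.sum_eq_single i (fun j _ h => by rw [Pi.single_eq_of_ne h, zero_smul]) (by simp),
    Pi.single_eq_same, one_smul]

variable (C : KoszSh.Cx (∐ fun i => ClSub.idealMod (IY i)) (Limits.Sigma.desc fun i => ClSub.idealModι (IY i)))
  (C' : KoszSh.Cx (∐ fun i => ClSub.idealMod (IY i * ID)) (Limits.Sigma.desc fun i => ClSub.idealModι (IY i * ID)))

/-- Sections of the comparison map on a chart. -/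
theorem chart_sections (f : (∐ fun i => ClSub.idealMod (IY i * ID)) ⟶ ∐ fun i => ClSub.idealMod (IY i))
    (hf : ∀ i, ∃ fi : ClSub.idealMod (IY i * ID) ⟶ ClSub.idealMod (IY i),
      fi ≫ ClSub.idealModι (IY i) = ClSub.idealModι (IY i * ID) ∧
      Limits.Sigma.ι (fun i => ClSub.idealMod (IY i * ID)) i ≫ f = fi ≫ Limits.Sigma.ι (fun i => ClSub.idealMod (IY i)) i)
    (q : ℕ) (φ : C'.K.X q ⟶ C.K.X q)
    (hφ : ∀ (U : X.affineOpens) (e : Fin q → Γ(∐ fun i => ClSub.idealMod (IY i * ID), U.1)),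
      φ.app U.1 ((C'.loc q U).symm (ιMulti _ q e)) = (C.loc q U).symm (ιMulti _ q (fun j => f.app U.1 (e j))))
    {V : X.affineOpens} {g : Fin n → Γ(X, V.1)} {x : Γ(X, V.1)} (hc : IsChart IY ID V g x) :
    IsSMulRegular Γ(C.K.X q, V.1) x ∧ Function.Injective (φ.app V.1) ∧
      (∀ k, ∃ y, φ.app V.1 y = x ^ q • k) ∧ ∀ y, ∃ k, φ.app V.1 y = x ^ q • k := by
  classical
  choose e he heb using fun i => exists_gen_sections (IY i) V (hc.g_mem i) (hc.g_span i)
  choose e' he' heb' using fun i => exists_gen_sections (IY i * ID) V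
    (mul_mem (hc.g_mem i) hc.x_mem) (a := g i * x) (by
      rw [Scheme.IdealSheafData.ideal_mul, Pi.mul_apply, hc.g_span i, hc.x_span, Ideal.span_singleton_mul_span_singleton])
  obtain ⟨b, hb⟩ := exists_sigma_basis (fun i => ClSub.idealMod (IY i)) V.1 e heb
  obtain ⟨b', hb'⟩ := exists_sigma_basis (fun i => ClSub.idealMod (IY i * ID)) V.1 e' heb'
  have hfb : ∀ i, f.app V.1 (b' i) = x • b i := by
    intro i
    obtain ⟨fi, hfi, hι⟩ := hf i
    rw [hb', hb]
    show (Limits.Sigma.ι (fun i => ClSub.idealMod (IY i * ID)) i ≫ f).app V.1 (e' i) = _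
    rw [hι, ← Scheme.Modules.Hom.app_smul]
    refine congrArg ((Limits.Sigma.ι (fun i => ClSub.idealMod (IY i)) i).app V.1) ?_
    refine H29Blow.idealSect_injective (IY i) V.1 ?_
    rw [H29Blow.idealSect_smul, he]
    refine Eq.trans ?_ (mul_comm (g i) x)
    rw [← he' i]
    show (fi ≫ ClSub.idealModι (IY i)).app V.1 (e' i) = _
    rw [hfi]
    rfl
  let θ := b'.equiv b (Equiv.refl _)
  have hθ : appL f V.1 = x • θ.toLinearMap := b'.ext fun i => by
    show f.app V.1 (b' i) = x • θ (b' i)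
    rw [hfb]; simp [θ]
  let Θ := exteriorPower.map q θ.toLinearMap
  have hΘb : Function.Bijective Θ := by
    refine ⟨Function.LeftInverse.injective (g := exteriorPower.map q θ.symm.toLinearMap) fun w => ?_,
      Function.RightInverse.surjective (g := exteriorPower.map q θ.symm.toLinearMap) fun w => ?_⟩ <;>
    · rw [← LinearMap.comp_apply, ← exteriorPower.map_comp]
      simp
  have hmap : exteriorPower.map q (appL f V.1) = x ^ q • Θ := by
    rw [hθ]
    refine exteriorPower.linearMap_ext (AlternatingMap.ext fun m => ?_)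
    simp only [Θ, LinearMap.compAlternatingMap_apply, LinearMap.smul_apply, exteriorPower.map_apply_ιMulti]
    rw [show ((x • θ.toLinearMap : _ →ₗ[Γ(X, V.1)] _) ∘ m) = fun j => x • θ (m j) from rfl,
      ← AlternatingMap.coe_multilinearMap,
      MultilinearMap.map_smul_univ (ιMulti Γ(X, V.1) q).toMultilinearMap (fun _ => x) (fun j => θ (m j))]
    simp
    rfl
  haveI := Module.Free.of_basis b
  have hxk : IsSMulRegular (↥(⋀[Γ(X, V.1)]^q Γ(∐ fun i => ClSub.idealMod (IY i), V.1))) x := by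
    obtain ⟨⟨ι, bw⟩⟩ := Module.Free.exists_basis (R := Γ(X, V.1))
      (M := ↥(⋀[Γ(X, V.1)]^q Γ(∐ fun i => ClSub.idealMod (IY i), V.1)))
    intro a c hac
    refine bw.repr.injective (Finsupp.ext fun j => ?_)
    have := congrArg (fun w => bw.repr w j) hac
    simp only [map_smul, Finsupp.smul_apply, smul_eq_mul] at this
    refine sub_eq_zero.1 ((mem_nonZeroDivisors_iff_right.1 hc.x_mem) _ ?_)
    rw [sub_mul, mul_comm _ x, mul_comm _ x, this, sub_self]
  have hφ' : ∀ y, φ.app V.1 y = x ^ q • (C.loc q V).symm (Θ (C'.loc q V y)) := by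
    intro y
    rw [← map_smul, ← LinearMap.smul_apply, ← hmap]
    induction y using KoszSh.term_induction C' q V with
    | hgen e =>
      rw [hφ, LinearEquiv.apply_symm_apply, exteriorPower.map_apply_ιMulti]
      rfl
    | h0 => simp
    | hadd a c ha hc' => simp only [map_add, ha, hc']
    | hsmul r a ha => simp only [Scheme.Modules.Hom.app_smul, map_smul, ha]
  have hreg : IsSMulRegular Γ(C.K.X q, V.1) x := fun a c hac =>
    (C.loc q V).injective (hxk (by
      have := congrArg (C.loc q V) hac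
      rwa [map_smul, map_smul] at this))
  refine ⟨hreg, fun a c hac => ?_, fun k => ?_, fun y => ⟨_, hφ' y⟩⟩
  · rw [hφ', hφ'] at hac
    exact (C'.loc q V).injective (hΘb.1 ((C.loc q V).symm.injective ((hreg.pow q) hac)))
  · obtain ⟨w, hw⟩ := hΘb.2 (C.loc q V k)
    refine ⟨(C'.loc q V).symm w, ?_⟩
    rw [hφ', LinearEquiv.apply_symm_apply, hw, LinearEquiv.symm_apply_apply]

/-- The comparison map on stalks. -/
theorem chart_stalk (f : (∐ fun i => ClSub.idealMod (IY i * ID)) ⟶ ∐ fun i => ClSub.idealMod (IY i))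
    (hf : ∀ i, ∃ fi : ClSub.idealMod (IY i * ID) ⟶ ClSub.idealMod (IY i),
      fi ≫ ClSub.idealModι (IY i) = ClSub.idealModι (IY i * ID) ∧
      Limits.Sigma.ι (fun i => ClSub.idealMod (IY i * ID)) i ≫ f = fi ≫ Limits.Sigma.ι (fun i => ClSub.idealMod (IY i)) i)
    (q : ℕ) (φ : C'.K.X q ⟶ C.K.X q)
    (hφ : ∀ (U : X.affineOpens) (e : Fin q → Γ(∐ fun i => ClSub.idealMod (IY i * ID), U.1)),
      φ.app U.1 ((C'.loc q U).symm (ιMulti _ q e)) = (C.loc q U).symm (ιMulti _ q (fun j => f.app U.1 (e j))))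
    {V : X.affineOpens} {g : Fin n → Γ(X, V.1)} {x : Γ(X, V.1)} (hc : IsChart IY ID V g x) {p : X} (hp : p ∈ V.1) :
    IsSMulRegular ((C.K.X q).presheaf.stalk p) (X.presheaf.germ V.1 p hp x) ∧
      Function.Injective (stalkLin φ p) ∧
      LinearMap.range (stalkLin φ p) =
        Ideal.span {X.presheaf.germ V.1 p hp x ^ q} • (⊤ : Submodule _ ((C.K.X q).presheaf.stalk p)) := by
  let ξ := X.presheaf.germ V.1 p hp x
  have shrink : ∀ (W : X.Opens), p ∈ W → ∃ V' : X.affineOpens, p ∈ V'.1 ∧ V'.1 ≤ W ∧ V'.1 ≤ V.1 := by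
    intro W hW
    obtain ⟨V', hV', hpV', hle⟩ := exists_isAffineOpen_mem_and_subset (x := p) (U := W ⊓ V.1) ⟨hW, hp⟩
    exact ⟨⟨V', hV'⟩, hpV', fun a ha => (hle ha).1, fun a ha => (hle ha).2⟩
  have rep : ∀ {M : X.Modules} (a : M.presheaf.stalk p), ∃ (V' : X.affineOpens) (h : V'.1 ≤ V.1) (hpV' : p ∈ V'.1)
      (s : Γ(M, V'.1)), M.presheaf.germ V'.1 p hpV' s = a := by
    intro M a
    obtain ⟨W, hW, s, rfl⟩ := M.presheaf.exists_germ_eq a
    obtain ⟨V', hpV', hWle, hVle⟩ := shrink W hW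
    exact ⟨V', hVle, hpV', _, TopCat.Presheaf.germ_res_apply _ (homOfLE hWle) p hpV' s⟩
  have hξ : ∀ (V' : X.affineOpens) (h : V'.1 ≤ V.1) (hpV' : p ∈ V'.1),
      X.presheaf.germ V'.1 p hpV' (X.presheaf.map (homOfLE h).op x) = ξ := fun V' h hpV' =>
    TopCat.Presheaf.germ_res_apply _ (homOfLE h) p hpV' x
  refine ⟨fun a c hac => sub_eq_zero.1 ?_, (injective_iff_map_eq_zero _).2 fun a ha => ?_, le_antisymm ?_ ?_⟩
  · obtain ⟨V', h, hpV', s, hs⟩ := rep (a - c)
    have h0 : (C.K.X q).presheaf.germ V'.1 p hpV' (X.presheaf.map (homOfLE h).op x • s) =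
        (C.K.X q).presheaf.germ V'.1 p hpV' 0 := by
      rw [H06Mod.germ_smul, hξ, hs, map_zero, smul_sub, sub_eq_zero]
      exact hac
    obtain ⟨W, hpW, i₁, i₂, hW⟩ := (C.K.X q).presheaf.germ_eq p hpV' hpV' _ _ h0
    obtain ⟨V'', hpV'', hWle, hVle⟩ := shrink W hpW
    have h2 := congrArg ((C.K.X q).presheaf.map (homOfLE hWle).op) hW
    simp only [map_zero, ← ConcreteCategory.comp_apply, ← Functor.map_comp, ← op_comp] at h2
    rw [show homOfLE hWle ≫ i₁ = homOfLE (hWle.trans (leOfHom i₁)) from rfl, Scheme.Modules.map_smul,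
      ← ConcreteCategory.comp_apply, ← Functor.map_comp, ← op_comp] at h2
    have hreg := (chart_sections C C' f hf q φ hφ (hc.res hVle)).1
    have h3 := hreg (h2.trans (smul_zero _).symm)
    rw [← hs, ← TopCat.Presheaf.germ_res_apply _ (homOfLE (hWle.trans (leOfHom i₁))) p hpV'', h3, map_zero]
  · obtain ⟨V', h, hpV', s, rfl⟩ := rep a
    rw [stalkLin_germ] at ha
    obtain ⟨W, hpW, i₁, i₂, hW⟩ := (C.K.X q).presheaf.germ_eq p hpV' hpV' _ 0 (ha.trans (map_zero _).symm)
    obtain ⟨V'', hpV'', hWle, hVle⟩ := shrink W hpW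
    have h2 := congrArg ((C.K.X q).presheaf.map (homOfLE hWle).op) hW
    simp only [map_zero, ← ConcreteCategory.comp_apply, Category.assoc, ← Functor.map_comp, ← op_comp] at h2
    rw [show homOfLE hWle ≫ i₁ = homOfLE (hWle.trans (leOfHom i₁)) from rfl, ConcreteCategory.comp_apply, ← H11Tilde.app_map_apply] at h2
    have h3 := (chart_sections C C' f hf q φ hφ (hc.res hVle)).2.1 (h2.trans (map_zero _).symm)
    rw [← TopCat.Presheaf.germ_res_apply _ (homOfLE (hWle.trans (leOfHom i₁))) p hpV'', h3, map_zero]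
  · rintro _ ⟨a, rfl⟩
    obtain ⟨V', h, hpV', s, rfl⟩ := rep a
    obtain ⟨k, hk⟩ := (chart_sections C C' f hf q φ hφ (hc.res h)).2.2.2 s
    rw [stalkLin_germ, hk, H06Mod.germ_smul, map_pow, hξ]
    exact Submodule.smul_mem_smul (Ideal.mem_span_singleton_self _) Submodule.mem_top
  · rw [Submodule.smul_le]
    intro r hr a _
    obtain ⟨c, rfl⟩ := Ideal.mem_span_singleton'.1 hr
    obtain ⟨V', h, hpV', s, rfl⟩ := rep a
    obtain ⟨y, hy⟩ := (chart_sections C C' f hf q φ hφ (hc.res h)).2.2.1 s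
    rw [mul_smul]
    refine Submodule.smul_mem _ c ⟨(C'.K.X q).presheaf.germ V'.1 p hpV' y, ?_⟩
    rw [stalkLin_germ, hy, H06Mod.germ_smul, map_pow, hξ]

end Groth.Agent.H17.KoszTwist
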