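import Groth.Agent.H17.KoszTwist.Unit
import Mathlib

/-!
# Cycles, boundaries and the fibre product on stalks
-/

set_option autoImplicit false
set_option linter.style.haveILetI false
universe u

open CategoryTheory CategoryTheory.Limits AlgebraicGeometry Opposite TopologicalSpace

noncomputable section

namespace Groth.Agent.H17.KoszTwist

open Groth.Agent.H06Mod Groth.Agent.H29Omega

variable {X : Scheme.{u}}

variable (K : ChainComplex X.Modules ℕ)

theorem range_iCycles (q : ℕ) (p : X) :
    LinearMap.range (stalkLin (K.iCycles q) p) =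
      LinearMap.ker (stalkLin (K.d q ((ComplexShape.down ℕ).next q)) p) :=
  range_eq_ker_of_exact (ShortComplex.mk (K.iCycles q) (K.d q ((ComplexShape.down ℕ).next q)) (K.iCycles_d q _))
    (ShortComplex.exact_of_f_is_kernel _ (K.cyclesIsKernel q _ rfl)) p

theorem range_toCycles_iCycles (q : ℕ) (p : X) :
    (LinearMap.range (stalkLin (K.toCycles (q + 1) q) p)).map (stalkLin (K.iCycles q) p) =
      LinearMap.range (stalkLin (K.d (q + 1) q) p) := by
  rw [← stalk_range_comp, K.toCycles_i]

theorem range_toCycles (q : ℕ) (p : X) :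
    LinearMap.range (stalkLin (K.toCycles (q + 1) q) p) = LinearMap.ker (stalkLin (K.homologyπ q) p) :=
  range_eq_ker_of_exact (ShortComplex.mk (K.toCycles (q + 1) q) (K.homologyπ q) (K.toCycles_comp_homologyπ _ _))
    (ShortComplex.exact_of_g_is_cokernel _ (K.homologyIsCokernel (q + 1) q (by simp))) p

theorem surjective_homologyπ (q : ℕ) (p : X) : Function.Surjective (stalkLin (K.homologyπ q) p) :=
  surjective_stalk_of_epi (K.homologyπ q) p

variable {K} {ID : X.IdealSheafData}

/-- The comparison map `Z → Z|_D ×_{H|_D} H`. -/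
def toP (q : ℕ) : K.cycles q ⟶ Limits.pullback
    ((Scheme.Modules.pullback ID.subschemeι ⋙ Scheme.Modules.pushforward ID.subschemeι).map (K.homologyπ q))
    ((Scheme.Modules.pullbackPushforwardAdjunction ID.subschemeι).unit.app (K.homology q)) :=
  pullback.lift (η ID (K.cycles q)) (K.homologyπ q)
    ((Scheme.Modules.pullbackPushforwardAdjunction ID.subschemeι).unit.naturality (K.homologyπ q)).symm

theorem pullback_stalk_ext {A B C : X.Modules} (f : A ⟶ C) (g : B ⟶ C) (p : X)
    {a : (pullback f g).presheaf.stalk p} (h1 : stalkLin (pullback.fst f g) p a = 0)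
    (h2 : stalkLin (pullback.snd f g) p a = 0) : a = 0 := by
  obtain ⟨b, rfl⟩ := (range_stalk_kernelι (pullback.fst f g) p).ge (LinearMap.mem_ker.2 h1)
  haveI : Mono (kernel.ι (pullback.fst f g) ≫ pullback.snd f g) :=
    Preadditive.mono_of_cancel_zero _ fun {P} k hk => by
      rw [← cancel_mono (kernel.ι (pullback.fst f g)), zero_comp]
      refine pullback.hom_ext ?_ ?_
      · rw [Category.assoc, kernel.condition, comp_zero, zero_comp]
      · rw [Category.assoc, hk, zero_comp]
  have hb : b = 0 := stalk_injective_of_mono (kernel.ι (pullback.fst f g) ≫ pullback.snd f g) p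
    (by rw [stalkLin_comp, h2, map_zero])
  rw [hb, map_zero]

/-- `toP` on stalks. -/
theorem stalk_toP (q : ℕ) {V : X.affineOpens} {x : Γ(X, V.1)} (hI : ID.ideal V = Ideal.span {x}) {p : X}
    (hp : p ∈ V.1) (hH : IsSMulRegular ((K.homology q).presheaf.stalk p) (X.presheaf.germ V.1 p hp x)) :
    Function.Surjective (stalkLin (toP (K := K) (ID := ID) q) p) ∧
      LinearMap.ker (stalkLin (toP (K := K) (ID := ID) q) p) =
        Ideal.span {X.presheaf.germ V.1 p hp x} • LinearMap.range (stalkLin (K.toCycles (q + 1) q) p) := by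
  let c := toP (K := K) (ID := ID) q
  obtain ⟨hsZ, hkZ⟩ := stalk_η hI hp (K.cycles q)
  obtain ⟨hsH, hkH⟩ := stalk_η hI hp (K.homology q)
  have hπ := surjective_homologyπ K q p
  have hfst : ∀ z, stalkLin (pullback.fst _ _) p (stalkLin c p z) = stalkLin (η ID (K.cycles q)) p z := fun z => by
    rw [← stalkLin_comp]
    simp only [c, toP, pullback.lift_fst]
  have hsnd : ∀ z, stalkLin (pullback.snd _ _) p (stalkLin c p z) = stalkLin (K.homologyπ q) p z := fun z => by
    rw [← stalkLin_comp]
    simp only [c, toP, pullback.lift_snd]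
  refine ⟨fun a => ?_, le_antisymm (fun z hz => ?_) ?_⟩
  · obtain ⟨z₀, hz₀⟩ := hsZ (stalkLin (pullback.fst _ _) p a)
    obtain ⟨z₁, hz₁⟩ := hπ (stalkLin (pullback.snd _ _) p a)
    have hd : stalkLin (K.homologyπ q) p z₁ - stalkLin (K.homologyπ q) p z₀ ∈
        LinearMap.ker (stalkLin (η ID (K.homology q)) p) := by
      have hc := congrArg (fun φ => stalkLin φ p a) (pullback.condition (f :=
        (Scheme.Modules.pullback ID.subschemeι ⋙ Scheme.Modules.pushforward ID.subschemeι).map (K.homologyπ q))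
        (g := (Scheme.Modules.pullbackPushforwardAdjunction ID.subschemeι).unit.app (K.homology q)))
      simp only [stalkLin_comp, ← hz₀, ← hz₁] at hc
      rw [← stalkLin_comp] at hc
      have hn := (Scheme.Modules.pullbackPushforwardAdjunction ID.subschemeι).unit.naturality (K.homologyπ q)
      simp only [Functor.id_map] at hn
      rw [← hn, stalkLin_comp] at hc
      rw [LinearMap.mem_ker, map_sub]
      exact sub_eq_zero.2 hc.symm
    rw [hkH] at hd
    obtain ⟨h, -, hh⟩ := mem_span_smul.1 hd
    obtain ⟨z₂, hz₂⟩ := hπ h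
    refine ⟨z₀ + X.presheaf.germ V.1 p hp x • z₂, sub_eq_zero.1 (pullback_stalk_ext _ _ p ?_ ?_)⟩
    · have h0 : stalkLin (η ID (K.cycles q)) p (X.presheaf.germ V.1 p hp x • z₂) = 0 :=
        LinearMap.mem_ker.1 (hkZ.ge (mem_span_smul.2 ⟨z₂, Submodule.mem_top, rfl⟩))
      rw [map_sub, hfst, map_add, hz₀, h0, add_zero, sub_self]
    · rw [map_sub, hsnd, map_add, map_smul, hz₂, hh, add_sub_cancel, hz₁, sub_self]
  · rw [LinearMap.mem_ker] at hz
    have h1 := hsnd z
    rw [hz, map_zero] at h1
    have h2 := hfst z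
    rw [hz, map_zero] at h2
    obtain ⟨z₀, -, rfl⟩ := mem_span_smul.1 (hkZ.le (LinearMap.mem_ker.2 h2.symm))
    rw [map_smul] at h1
    refine mem_span_smul.2 ⟨z₀, ?_, rfl⟩
    rw [range_toCycles, LinearMap.mem_ker]
    exact hH (h1.symm.trans (smul_zero _).symm)
  · intro z hz
    obtain ⟨z₀, hz₀, rfl⟩ := mem_span_smul.1 hz
    rw [range_toCycles, LinearMap.mem_ker] at hz₀
    rw [LinearMap.mem_ker]
    refine pullback_stalk_ext _ _ p ?_ ?_
    · rw [hfst]
      exact LinearMap.mem_ker.1 (hkZ.ge (mem_span_smul.2 ⟨z₀, Submodule.mem_top, rfl⟩))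
    · rw [hsnd, map_smul, hz₀, smul_zero]

end Groth.Agent.H17.KoszTwist
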