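import Groth.Agent.H17.KoszSh.Exact
import Groth.Agent.H13CInt.Spread
import Mathlib

/-!
# Regularity of an element on Koszul homology of a family generating a regular ideal
-/

set_option autoImplicit false
universe u

noncomputable section

namespace Groth.Agent.H17.KoszTwist

open ExteriorAlgebra
open Groth.Agent.H17.KoszSh

variable {R : Type u} [CommRing R] {M : Type u} [AddCommGroup M] [Module R M]
  {N : Type u} [AddCommGroup N] [Module R N]

theorem contract_map (j : N →ₗ[R] M) (φ : M →ₗ[R] R) (y : ExteriorAlgebra R N) :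
    contract φ (ExteriorAlgebra.map j y) = ExteriorAlgebra.map j (contract (φ ∘ₗ j) y) := by
  induction y using CliffordAlgebra.left_induction with
  | algebraMap r => rw [AlgHom.commutes, contract_algebraMap, contract_algebraMap, map_zero]
  | add a b ha hb => simp only [map_add, ha, hb]
  | ι_mul m x hx =>
    show contract φ (ExteriorAlgebra.map j (ι R x * m)) = ExteriorAlgebra.map j (contract (φ ∘ₗ j) (ι R x * m))
    rw [map_mul, ExteriorAlgebra.map_apply_ι, contract_ι_mul, contract_ι_mul, hx, map_sub, map_smul, map_mul,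
      ExteriorAlgebra.map_apply_ι]
    rfl

theorem map_deg (j : N →ₗ[R] M) (W : Submodule R N) (p : ℕ) :
    (deg W p).map (ExteriorAlgebra.map j).toLinearMap = deg (W.map j) p := by
  rw [deg, deg, Submodule.map_pow, ← Submodule.map_comp, ← Submodule.map_comp]
  refine congrArg (fun f => (W.map f) ^ p) (LinearMap.ext fun w => ?_)
  exact ExteriorAlgebra.map_apply_ι j w

/-- A cycle `y` of degree `p` in `W` with `x • y` a boundary is a boundary. -/
def RegOn (φ : M →ₗ[R] R) (x : R) (W : Submodule R M) : Prop :=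
  ∀ p, ∀ y ∈ deg W p, contract φ y = 0 → (∃ w ∈ deg W (p + 1), contract φ w = x • y) →
    ∃ w ∈ deg W (p + 1), contract φ w = y

theorem RegOn.step (φ ψ : M →ₗ[R] R) (x : R) (W : Submodule R M) (e : M) (he : φ e = 0)
    (hψW : ∀ w ∈ W, ψ w = 0) (hψe : ψ e = 1) (h : RegOn φ x W) : RegOn φ x (W ⊔ Submodule.span R {e}) := by
  have hle : ∀ q, deg W q ≤ deg (W ⊔ Submodule.span R {e}) q := fun q =>
    pow_le_pow_left' (Submodule.map_mono le_sup_left) q
  have heW : e ∈ W ⊔ Submodule.span R {e} := Submodule.mem_sup_right (Submodule.mem_span_singleton_self e)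
  have hd : ∀ c, contract φ (ι R e * c) = -(ι R e * contract φ c) := fun c => by
    rw [contract_ι_mul, he, zero_smul, zero_sub]
  have hsplit : ∀ {p q : ℕ} {a c : ExteriorAlgebra R M}, a ∈ deg W p → c ∈ deg W q →
      contract ψ (a + ι R e * c) = c := fun {p q a c} ha hc => by
    rw [map_add, contract_ι_mul, contract_eq_zero ψ hψW ha, contract_eq_zero ψ hψW hc, hψe, one_smul,
      mul_zero, sub_zero, zero_add]
  intro p y hy hdy hw
  obtain ⟨w, hw, hwy⟩ := hw
  obtain ⟨a', ha', c', hc', rfl⟩ := exists_decomp W e hw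
  rw [map_add, hd] at hwy
  rcases p with - | p
  · obtain ⟨r, rfl⟩ := mem_deg_zero_iff.1 hy
    obtain ⟨s, rfl⟩ := mem_deg_zero_iff.1 hc'
    rw [contract_algebraMap, mul_zero, neg_zero, add_zero] at hwy
    obtain ⟨w', hw', hw'y⟩ := h 0 _ (mem_deg_zero_iff.2 ⟨r, rfl⟩) hdy ⟨a', ha', hwy⟩
    exact ⟨w', hle _ hw', hw'y⟩
  · obtain ⟨a, ha, c, hc, rfl⟩ := exists_decomp W e hy
    have hc0 : contract φ c = 0 := by
      rcases p with - | p
      · obtain ⟨r, rfl⟩ := mem_deg_zero_iff.1 hc
        exact contract_algebraMap φ r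
      · have h2 := congrArg (contract ψ) hdy
        rw [map_add, hd, ← mul_neg, ← map_neg (contract φ), map_zero,
          hsplit (contract_mem φ ha) (contract_mem φ (neg_mem hc)), map_neg, neg_eq_zero] at h2
        exact h2
    have ha0 : contract φ a = 0 := by
      rwa [map_add, hd, hc0, mul_zero, neg_zero, add_zero] at hdy
    rw [← mul_neg, ← map_neg (contract φ), smul_add, ← mul_smul_comm] at hwy
    have h2 := congrArg (contract ψ) hwy
    rw [hsplit (contract_mem φ ha') (contract_mem φ (neg_mem hc')),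
      hsplit (Submodule.smul_mem _ x ha) (Submodule.smul_mem _ x hc)] at h2
    have h3 : contract φ a' = x • a := by
      rw [h2] at hwy
      exact add_right_cancel hwy
    obtain ⟨a'', ha'', hda⟩ := h (p + 1) a ha ha0 ⟨a', ha', h3⟩
    obtain ⟨c'', hc'', hdc⟩ := h p c hc hc0 ⟨-c', neg_mem hc', h2⟩
    refine ⟨a'' - ι R e * c'', sub_mem (hle _ ha'') (ι_mul_mem_deg heW (hle _ hc'')), ?_⟩
    rw [map_sub, hd, sub_neg_eq_add, hda, hdc]

/-- `x` is regular on the Koszul homology of `φ` if its image is generated by a weakly regular sequence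
modulo which `x` is regular. -/
theorem koszul_regular {n r : ℕ} (b : Module.Basis (Fin n) R M) (φ : M →ₗ[R] R) (h : Fin r → R) (x : R)
    (hh : Ideal.span (Set.range h) = LinearMap.range φ)
    (hreg : RingTheory.Sequence.IsWeaklyRegular R (List.ofFn h))
    (hx : ∀ a, x * a ∈ LinearMap.range φ → a ∈ LinearMap.range φ) (p : ℕ) (y w : ExteriorAlgebra R M)
    (hy : y ∈ ⋀[R]^p M) (hdy : contract φ y = 0) (hw : w ∈ ⋀[R]^(p + 1) M) (hwy : contract φ w = x • y) :
    ∃ w' ∈ ⋀[R]^(p + 1) M, contract φ w' = y := by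
  classical
  have hh' : ∀ i, h i ∈ LinearMap.range φ := fun i => hh.le (Ideal.subset_span ⟨i, rfl⟩)
  choose e he using hh'
  let hc : (Fin r → R) →ₗ[R] R := Fintype.linearCombination R h
  have hc_range : LinearMap.range hc = LinearMap.range φ := by
    rw [← hh, Fintype.range_linearCombination]
  have hu : ∀ i, ∃ c, hc c = φ (b i) := fun i =>
    LinearMap.mem_range.1 (hc_range.ge ⟨b i, rfl⟩)
  choose u hu using hu
  let U : M →ₗ[R] (Fin r → R) := b.constr R u
  let E : (Fin r → R) →ₗ[R] M := Fintype.linearCombination R e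
  have hU : hc ∘ₗ U = φ := b.ext fun i => by simp [U, hu]
  have hE : φ ∘ₗ E = hc := by
    refine LinearMap.ext fun c => ?_
    simp only [E, hc, LinearMap.comp_apply, Fintype.linearCombination_apply, map_sum, map_smul, he]
  let η : M × (Fin r → R) →ₗ[R] R := hc ∘ₗ LinearMap.snd R M (Fin r → R)
  let ι₂ := LinearMap.inr R M (Fin r → R)
  let W : ℕ → Submodule R (M × (Fin r → R)) := fun k =>
    LinearMap.range ι₂ ⊔ Submodule.span R ((fun i => (b i, (0 : Fin r → R))) '' {j : Fin n | (j : ℕ) < k})
  let bR := Pi.basisFun R (Fin r)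
  have hbR : (fun k => hc (bR k)) = h := funext fun k => by
    simp only [bR, hc, Pi.basisFun_apply, Fintype.linearCombination_apply_single, one_smul]
  have hW0 : RegOn η x (LinearMap.range ι₂) := by
    have hdeg : ∀ q, deg (LinearMap.range ι₂) q =
        (⋀[R]^q (Fin r → R)).map (ExteriorAlgebra.map ι₂).toLinearMap := fun q => by
      rw [LinearMap.range_eq_map, ← map_deg, deg, Submodule.map_top]
    have hηι : η ∘ₗ ι₂ = hc := LinearMap.ext fun c => rfl
    have hinj : Function.Injective (ExteriorAlgebra.map ι₂) :=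
      ExteriorAlgebra.map_injective ⟨LinearMap.snd R M (Fin r → R), LinearMap.ext fun c => rfl⟩
    intro p y hy hdy hw
    rw [hdeg] at hy
    obtain ⟨y, hy0, rfl⟩ := hy
    have hd0 : contract hc y = 0 := hinj (by rw [map_zero, ← hηι, ← contract_map]; exact hdy)
    rcases p with - | p
    · obtain ⟨w, hw, hwy⟩ := hw
      rw [hdeg] at hw
      obtain ⟨w, hw0, rfl⟩ := hw
      have hwy' : contract hc w = x • y := hinj (by
        rw [map_smul, ← hηι, ← contract_map]; exact hwy)
      obtain ⟨a, rfl⟩ := mem_deg_zero_iff.1 (show y ∈ deg (⊤ : Submodule R (Fin r → R)) 0 by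
        rw [deg, Submodule.map_top]; exact hy0)
      have hw1 : ∃ c, ι R c = w := by
        rw [exteriorPower, pow_one] at hw0
        exact hw0
      obtain ⟨c, rfl⟩ := hw1
      have hxa : hc c = x * a := (algebraMap_eq_zero_iff (Fin r → R) _).1 (show algebraMap R (ExteriorAlgebra R (Fin r → R)) (hc c - x * a) = 0 by
        rw [map_sub, map_mul, sub_eq_zero, ← Algebra.smul_def, ← hwy']
        exact (CliffordAlgebra.contractLeft_ι _ hc c).symm) |> sub_eq_zero.1
      obtain ⟨c', hc'⟩ := LinearMap.mem_range.1 (hc_range.ge (hx a (hc_range.le ⟨c, hxa⟩)))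
      refine ⟨ExteriorAlgebra.map ι₂ (ι R c'), ?_, ?_⟩
      · rw [hdeg]
        refine Submodule.mem_map_of_mem (show ι R c' ∈ ⋀[R]^1 (Fin r → R) by
          rw [exteriorPower, pow_one]; exact ⟨c', rfl⟩)
      · rw [contract_map, hηι]
        exact congrArg _ ((CliffordAlgebra.contractLeft_ι _ hc c').trans (congrArg _ hc'))
    · obtain ⟨z, hz, hzy⟩ := exact_of_isWeaklyRegular bR hc (by rw [hbR]; exact hreg) p y hy0 hd0
      refine ⟨ExteriorAlgebra.map ι₂ z, ?_, ?_⟩
      · rw [hdeg]
        exact Submodule.mem_map_of_mem hz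
      · rw [contract_map, hηι, hzy]
        rfl
  have hW : ∀ k ≤ n, RegOn η x (W k) := by
    intro k
    induction k with
    | zero =>
      intro _
      simpa [W] using hW0
    | succ k ih =>
      intro hk
      have hsucc : W (k + 1) = W k ⊔ Submodule.span R {(b ⟨k, hk⟩, (0 : Fin r → R))} := by
        simp only [W]
        rw [sup_assoc, ← Submodule.span_union, ← Set.image_singleton (f := fun i => (b i, (0 : Fin r → R))),
          ← Set.image_union]
        refine congrArg (fun s => LinearMap.range ι₂ ⊔ Submodule.span R (_ '' s)) (Set.ext fun j => ?_)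
        simp only [Set.mem_setOf_eq, Set.mem_union, Set.mem_singleton_iff, Fin.ext_iff]
        omega
      rw [hsucc]
      refine RegOn.step η (b.coord ⟨k, hk⟩ ∘ₗ LinearMap.fst R M (Fin r → R)) x _ _ (by simp [η])
        (fun w hw => ?_) (by simp) (ih (by omega))
      have hle : W k ≤ LinearMap.ker (b.coord ⟨k, hk⟩ ∘ₗ LinearMap.fst R M (Fin r → R)) := by
        refine sup_le ?_ (Submodule.span_le.2 ?_)
        · rintro _ ⟨c, rfl⟩
          simp [ι₂]
        · rintro _ ⟨j, hj, rfl⟩
          have hne : j ≠ ⟨k, hk⟩ := fun hjk => lt_irrefl k (by simpa [hjk] using hj)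
          simp [Finsupp.single_apply, hne]
      exact hle hw
  have htop : W n = ⊤ := by
    refine eq_top_iff.2 fun z _ => ?_
    rw [show z = ι₂ z.2 + (z.1, 0) by simp [ι₂]]
    refine Submodule.add_mem_sup ⟨_, rfl⟩ ?_
    have hm : z.1 ∈ Submodule.span R (Set.range b) := b.span_eq ▸ trivial
    have := Submodule.apply_mem_span_image_of_mem_span (LinearMap.inl R M (Fin r → R)) hm
    rw [← Set.range_comp] at this
    simpa [Set.image_univ, Fin.is_lt] using! this
  let i : M →ₗ[R] M × (Fin r → R) := LinearMap.prod LinearMap.id U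
  let π : M × (Fin r → R) →ₗ[R] M := LinearMap.fst R M (Fin r → R) +
    E ∘ₗ (LinearMap.snd R M (Fin r → R) - U ∘ₗ LinearMap.fst R M (Fin r → R))
  have hπ : φ ∘ₗ π = η := by
    rw [LinearMap.comp_add, ← LinearMap.comp_assoc, hE, LinearMap.comp_sub, ← LinearMap.comp_assoc, hU]
    abel
  have hi : η ∘ₗ i = φ := hU
  have hπi : ∀ m, π (i m) = m := fun m => by simp [π, i]
  have hdegtop : ∀ (L : Type u) [AddCommGroup L] [Module R L] (q : ℕ), deg (⊤ : Submodule R L) q = ⋀[R]^q L :=
    fun L _ _ q => by rw [deg, Submodule.map_top]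
  have hmapi : ∀ q, ∀ z ∈ ⋀[R]^q M, ExteriorAlgebra.map i z ∈ deg (W n) q := fun q z hz => by
    rw [htop]
    refine pow_le_pow_left' (Submodule.map_mono (f := ι R) le_top) q ((map_deg i ⊤ q).le ?_)
    exact Submodule.mem_map_of_mem (by rw [hdegtop]; exact hz)
  obtain ⟨w', hw', hw'y⟩ := hW n le_rfl p (ExteriorAlgebra.map i y) (hmapi p y hy)
    (by rw [contract_map, hi, hdy, map_zero])
    ⟨ExteriorAlgebra.map i w, hmapi _ w hw, by rw [contract_map, hi, hwy, map_smul]⟩
  refine ⟨ExteriorAlgebra.map π w', ?_, ?_⟩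
  · rw [← hdegtop M (p + 1)]
    exact pow_le_pow_left' (Submodule.map_mono (f := ι R) le_top) _
      ((map_deg π (W n) (p + 1)).le (Submodule.mem_map_of_mem hw'))
  · rw [contract_map, hπ, hw'y]
    exact (ExteriorAlgebra.leftInverse_map_iff (f := i) (g := π).2 hπi) y

end Groth.Agent.H17.KoszTwist
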