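import Groth.Agent.H17.KoszTwist.Regular
import Groth.Agent.H4Depth.CM
import Groth.Agent.H4Depth.Regular
import Groth.Agent.H05EGA4.DepthMisc
import Groth.Agent.H13CInt.Spread
import Groth.Prelude.Def_RegImm
import Mathlib

/-!
# Charts for a local complete intersection meeting a divisor properly
-/

set_option autoImplicit false
set_option linter.style.haveILetI false
universe u

open CategoryTheory CategoryTheory.Limits AlgebraicGeometry Opposite TopologicalSpace RingTheory.Sequence IsLocalRing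

noncomputable section

namespace Groth.Agent.H17.KoszTwist

open Groth.Agent Groth.Agent.H06Mod Groth.Agent.H29Omega

theorem isCM_quotient_list {R : Type u} [CommRing R] [IsLocalRing R] [IsNoetherianRing R] (rs : List R) :
    ∀ (M : Type u) [AddCommGroup M] [Module R M] [Module.Finite R M], (∀ r ∈ rs, r ∈ maximalIdeal R) →
      IsWeaklyRegular M rs → LocCoh.IsCohenMacaulayModule R M →
      LocCoh.IsCohenMacaulayModule R (M ⧸ Ideal.ofList rs • (⊤ : Submodule R M)) := by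
  induction rs with
  | nil =>
    intro M _ _ _ _ _ h
    exact H05EGA4.DepthMisc.isCM_congr (Submodule.quotEquivOfEqBot _ (by simp)).symm h
  | cons x rs ih =>
    intro M _ _ _ hm hw h
    rw [isWeaklyRegular_cons_iff] at hw
    simp only [List.mem_cons, forall_eq_or_imp] at hm
    exact H05EGA4.DepthMisc.isCM_congr (Submodule.quotOfListConsSMulTopEquivQuotSMulTopInner M x rs).symm
      (ih _ hm.2 hw.2 ((H4Depth.isCM_quotSMulTop_iff hm.1 hw.1).2 h))

/-- An element outside the minimal primes of a regular sequence is regular modulo it. -/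
theorem mem_of_mul_mem {R : Type u} [CommRing R] [LocCoh.IsCohenMacaulayLocalRing R] (rs : List R)
    (hw : IsWeaklyRegular R rs) (hne : Ideal.ofList rs ≠ ⊤) (ξ : R)
    (hξ : ∀ p : Ideal R, p.IsPrime → Ideal.ofList rs ≤ p →
      (∀ Q : Ideal R, Q.IsPrime → Ideal.ofList rs ≤ Q → Q ≤ p → Q = p) → ξ ∉ p)
    (a : R) (ha : ξ * a ∈ Ideal.ofList rs) : a ∈ Ideal.ofList rs := by
  let I : Submodule R R := Ideal.ofList rs • ⊤
  have hI : I = Ideal.ofList rs := by simp only [I, smul_eq_mul, Ideal.mul_top]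
  have hCM : LocCoh.IsCohenMacaulayModule R (R ⧸ I) :=
    isCM_quotient_list rs R (fun r hr => le_maximalIdeal hne (Ideal.subset_span hr)) hw
      LocCoh.IsCohenMacaulayLocalRing.supportDim_eq_depth
  by_contra hna
  have hzd : ξ ∈ ⋃ p ∈ associatedPrimes R (R ⧸ I), (p : Set R) := by
    rw [biUnion_associatedPrimes_eq_zero_divisors]
    exact ⟨Submodule.Quotient.mk a, fun h => hna (hI ▸ (Submodule.Quotient.mk_eq_zero _).1 h),
      (Submodule.Quotient.mk_eq_zero _).2 (hI.symm ▸ ha)⟩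
  simp only [Set.mem_iUnion] at hzd
  obtain ⟨p, hp, hξp⟩ := hzd
  have hsupp : Module.support R (R ⧸ I) = PrimeSpectrum.zeroLocus (Ideal.ofList rs : Set R) := by
    rw [Module.support_eq_zeroLocus, hI, Ideal.annihilator_quotient]
  have hle : Ideal.ofList rs ≤ p := by
    have := H4Depth.mem_support_of_mem_associatedPrimes hp
    rw [hsupp] at this
    exact this
  refine hξ p hp.isPrime hle (fun Q hQ hIQ hQp => ?_) hξp
  by_contra hne'
  have h1 : ringKrullDim (R ⧸ Q) ≤ ringKrullDim (R ⧸ p) := by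
    rw [H4Depth.IsCM.ringKrullDim_quotient_eq hCM hp]
    exact H4Depth.ringKrullDim_quotient_le_supportDim (p := ⟨Q, hQ⟩) (by rw [hsupp]; exact hIQ)
  haveI := hp.isPrime
  rw [ringKrullDim_quotient, ringKrullDim_quotient] at h1
  have h2 : ∀ (P : Ideal R) (hP : P.IsPrime), Order.krullDim (PrimeSpectrum.zeroLocus (P : Set R)) =
      ((Order.coheight (⟨P, hP⟩ : PrimeSpectrum R) : ℕ∞) : WithBot ℕ∞) := fun P hP => by
    rw [Order.coheight_eq_krullDim_Ici]
    rfl
  rw [h2 Q hQ, h2 p hp.isPrime, WithBot.coe_le_coe] at h1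
  refine (Order.coheight_strictAnti (x := (⟨p, hp.isPrime⟩ : PrimeSpectrum R)) (y := ⟨Q, hQ⟩)
    (lt_of_le_of_ne hQp fun h => hne' (congrArg PrimeSpectrum.asIdeal h)) ?_).not_ge h1
  refine lt_top_iff_ne_top.2 fun htop => ringKrullDim_ne_top (R := R) (top_le_iff.1 ?_)
  have h3 := Order.coheight_le_krullDim (⟨p, hp.isPrime⟩ : PrimeSpectrum R)
  rw [htop] at h3
  exact h3

variable {X : Scheme.{u}} {n : ℕ} {IY : Fin n → X.IdealSheafData} {ID : X.IdealSheafData}

theorem ideal_iSup_chart {V : X.affineOpens} {g : Fin n → Γ(X, V.1)} {x : Γ(X, V.1)} (hc : IsChart IY ID V g x) :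
    (⨆ i, IY i).ideal V = Ideal.span (Set.range g) := by
  rw [Scheme.IdealSheafData.ideal_iSup, iSup_apply, Ideal.span, Submodule.span_range_eq_iSup]
  exact iSup_congr fun i => hc.g_span i

theorem mem_range_of_germ_mem {V : X.affineOpens} {x : Γ(X, V.1)} (hI : ID.ideal V = Ideal.span {x}) {y : X}
    (hy : y ∈ V.1) (hb : y ∉ X.basicOpen x) : y ∈ Set.range ID.subschemeι.base := by
  rw [Scheme.IdealSheafData.range_subschemeι]
  refine ((ID.coe_support_inter V).ge ⟨?_, hy⟩).1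
  rw [hI, Scheme.mem_zeroLocus_iff]
  intro a ha hmem
  obtain ⟨c, rfl⟩ := Ideal.mem_span_singleton'.1 ha
  rw [Scheme.basicOpen_mul] at hmem
  exact hb hmem.2

/-- On the intersection, the equation of `D` is regular modulo the ideal. -/
theorem stalk_regular (hreg : ∀ x : X, IsRegularLocalRing (X.presheaf.stalk x))
    (hZD : ∀ z : ↥(⨆ i, IY i).subscheme, ringKrullDim ((⨆ i, IY i).subscheme.presheaf.stalk z) = 0 →
      (⨆ i, IY i).subschemeι.base z ∉ Set.range ID.subschemeι.base)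
    {V : X.affineOpens} {g : Fin n → Γ(X, V.1)} {x : Γ(X, V.1)} (hc : IsChart IY ID V g x)
    (hs : List Γ(X, V.1)) (hsJ : (⨆ i, IY i).ideal V = Ideal.ofList hs) (hw : IsWeaklyRegular Γ(X, V.1) hs)
    (z : ↥(⨆ i, IY i).subscheme) (hp : (⨆ i, IY i).subschemeι.base z ∈ V.1)
    (a : X.presheaf.stalk ((⨆ i, IY i).subschemeι.base z))
    (ha : X.presheaf.germ V.1 _ hp x * a ∈ ((⨆ i, IY i).ideal V).map (X.presheaf.germ V.1 _ hp).hom) :
    a ∈ ((⨆ i, IY i).ideal V).map (X.presheaf.germ V.1 _ hp).hom := by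
  let ι := (⨆ i, IY i).subschemeι
  letI := X.presheaf.algebra_section_stalk (⟨ι.base z, hp⟩ : V.1)
  haveI := V.2.isLocalization_stalk ⟨ι.base z, hp⟩
  haveI : Module.Flat Γ(X, V.1) (X.presheaf.stalk (ι.base z)) :=
    IsLocalization.flat _ (V.2.primeIdealOf ⟨ι.base z, hp⟩).asIdeal.primeCompl
  haveI := hreg (ι.base z)
  haveI := H4Depth.isCohenMacaulayLocalRing_of_regular (X.presheaf.stalk (ι.base z))
  have hker : RingHom.ker (ι.stalkMap z).hom = ((⨆ i, IY i).ideal V).map (X.presheaf.germ V.1 _ hp).hom :=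
    H29Blow.ker_stalkMap_subschemeι _ z V hp
  have hw' := hw.of_flat (S := X.presheaf.stalk (ι.base z))
  have hmap : ((⨆ i, IY i).ideal V).map (X.presheaf.germ V.1 _ hp).hom =
      Ideal.ofList (hs.map (algebraMap Γ(X, V.1) (X.presheaf.stalk (ι.base z)))) := by
    rw [hsJ, Ideal.map_ofList]
    rfl
  rw [hmap] at ha hker ⊢
  refine mem_of_mul_mem _ hw' (hker ▸ RingHom.ker_ne_top _) _ (fun P hP hIP hmin hξP => ?_) a ha
  -- the corresponding point of `Z`
  have hsurj : Function.Surjective (ι.stalkMap z).hom := ι.stalkMap_surjective z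
  have hP' : (P.map (ι.stalkMap z).hom).IsPrime :=
    Ideal.map_isPrime_of_surjective hsurj (hker.trans_le hIP)
  have hcomap : (P.map (ι.stalkMap z).hom).comap (ι.stalkMap z).hom = P := by
    rw [Ideal.comap_map_of_surjective _ hsurj, ← RingHom.ker_eq_comap_bot, hker]
    exact sup_eq_left.2 hIP
  let P' : PrimeSpectrum ((⨆ i, IY i).subscheme.presheaf.stalk z) := ⟨_, hP'⟩
  let z' := ((⨆ i, IY i).subscheme.fromSpecStalk z).base P'
  have hmax : IsMax z' := by
    intro w hw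
    rw [Scheme.le_iff_specializes] at hw ⊢
    have hwz : w ⤳ z := hw.trans ((Scheme.range_fromSpecStalk (x := z)).le ⟨P', rfl⟩)
    obtain ⟨Q, rfl⟩ := (Scheme.range_fromSpecStalk (x := z)).ge hwz
    have hQP : Q ⤳ P' :=
      (((⨆ i, IY i).subscheme.fromSpecStalk z).isEmbedding.isInducing.specializes_iff).1 hw
    have hle : Q.asIdeal ≤ P'.asIdeal := (PrimeSpectrum.le_iff_specializes Q P').2 hQP
    have hQ : Q.asIdeal.comap (ι.stalkMap z).hom = P := by
      refine hmin _ (Ideal.comap_isPrime _ _) ?_ ((Ideal.comap_mono hle).trans hcomap.le)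
      rw [← hker]
      exact Ideal.ker_le_comap _
    have : Q = P' := PrimeSpectrum.ext ((Ideal.map_comap_of_surjective _ hsurj _).symm.trans
      (by rw [hQ]))
    rw [this]
  have hdim : ringKrullDim ((⨆ i, IY i).subscheme.presheaf.stalk z') = 0 := by
    rw [ringKrullDim_stalk_eq_coheight, Order.coheight_eq_zero.2 hmax]
    rfl
  refine hZD z' hdim ?_
  have hy : ι.base z' = V.2.fromSpec.base ⟨P.comap (X.presheaf.germ V.1 _ hp).hom, Ideal.comap_isPrime _ _⟩ := by
    have h1 := congrArg (fun φ : Spec ((⨆ i, IY i).subscheme.presheaf.stalk z) ⟶ X => φ.base P') (Scheme.SpecMap_stalkMap_fromSpecStalk ι (x := z))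
    simp only [Scheme.Hom.comp_apply] at h1
    refine h1.symm.trans ?_
    rw [← V.2.fromSpecStalk_eq_fromSpecStalk hp, IsAffineOpen.fromSpecStalk, Scheme.Hom.comp_apply]
    refine congrArg _ (PrimeSpectrum.ext ?_)
    show ((P.map (ι.stalkMap z).hom).comap (ι.stalkMap z).hom).comap (X.presheaf.germ V.1 _ hp).hom = _
    rw [hcomap]
  refine mem_range_of_germ_mem hc.x_span (hy ▸ ?_) fun hb => ?_
  · rw [← SetLike.mem_coe, ← V.2.range_fromSpec]
    exact ⟨_, rfl⟩
  · rw [hy, ← Scheme.Hom.mem_preimage, V.2.fromSpec_preimage_basicOpen] at hb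
    exact hb hξP

/-- Regular charts exist. -/
theorem exists_regChart [IsLocallyNoetherian X] (hreg : ∀ x : X, IsRegularLocalRing (X.presheaf.stalk x))
    (hY : ∀ i, BlowUp.IsEffCartierIdeal (IY i)) (hD : BlowUp.IsEffCartierIdeal ID)
    (hZ : RegImm.IsRegularImmersion RegImm.Kind.regular (⨆ i, IY i).subschemeι)
    (hZD : ∀ z : ↥(⨆ i, IY i).subscheme, ringKrullDim ((⨆ i, IY i).subscheme.presheaf.stalk z) = 0 →
      (⨆ i, IY i).subschemeι.base z ∉ Set.range ID.subschemeι.base) (p : X) :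
    ∃ (V : X.affineOpens) (g : Fin n → Γ(X, V.1)) (x : Γ(X, V.1)) (hs : List Γ(X, V.1)),
      p ∈ V.1 ∧ IsRegChart (IY := IY) (ID := ID) V g x hs := by
  obtain ⟨V, g, x, hp, hc⟩ := exists_chart hY hD p
  by_cases hpZ : p ∈ Set.range (⨆ i, IY i).subschemeι.base
  swap
  · rw [Scheme.IdealSheafData.range_subschemeι] at hpZ
    obtain ⟨a, ha, hpa⟩ : ∃ a ∈ (⨆ i, IY i).ideal V, p ∈ X.basicOpen a := by
      by_contra h
      refine hpZ (((⨆ i, IY i).coe_support_inter V).ge ⟨?_, hp⟩).1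
      rw [Scheme.mem_zeroLocus_iff]
      exact fun a ha hm => h ⟨a, ha, hm⟩
    let W := X.affineBasicOpen (U := V) a
    refine ⟨W, _, _, [1], hpa, hc.res (V := W) (X.basicOpen_le a), ?_, ?_⟩
    · have htop : (⨆ i, IY i).ideal W = ⊤ := by
        rw [← (⨆ i, IY i).map_ideal (U := W) (V := V) (X.basicOpen_le a)]
        exact Ideal.eq_top_of_isUnit_mem _ (Ideal.mem_map_of_mem _ ha)
          (RingedSpace.isUnit_res_basicOpen _ a)
      rw [← ideal_iSup_chart (hc.res (V := W) (X.basicOpen_le a)), htop, Ideal.ofList_singleton,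
        Ideal.span_singleton_one]
    · rw [List.singleton_append, isWeaklyRegular_cons_iff, isWeaklyRegular_cons_iff]
      refine ⟨IsSMulRegular.one _ , ?_, IsWeaklyRegular.nil _ _⟩
      haveI : Subsingleton (QuotSMulTop (1 : Γ(X, W.1)) Γ(X, W.1)) := by
        rw [Submodule.Quotient.subsingleton_iff, one_smul]
      exact fun b c _ => Subsingleton.elim b c
  obtain ⟨z, rfl⟩ := hpZ
  obtain ⟨U, hzU, -, rs, hrs, hker⟩ := hZ.2 z
  obtain ⟨V₁, hV₁, hp₁, hle⟩ := exists_isAffineOpen_mem_and_subset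
    (x := (⨆ i, IY i).subschemeι.base z) (U := U.1 ⊓ V.1) ⟨hzU, hp⟩
  have hU' : (⟨V₁, hV₁⟩ : X.affineOpens).1 ≤ U.1 := fun a ha => (hle ha).1
  have hc₁ := hc.res (V := ⟨V₁, hV₁⟩) (fun a ha => (hle ha).2)
  let A := Γ(X, V₁)
  letI : Algebra Γ(X, U.1) A := (X.presheaf.map (homOfLE hU').op).hom.toAlgebra
  haveI : Module.Flat Γ(X, U.1) A := by
    have hfl := Scheme.Hom.flat_appLE (𝟙 X) U.2 hV₁ hU'
    simp only [Scheme.Hom.appLE, Scheme.Hom.id_app] at hfl
    exact hfl
  let hs₁ := rs.map (algebraMap Γ(X, U.1) A)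
  have hw₁ : IsWeaklyRegular A hs₁ := hrs.1.of_flat
  have hJ₁ : (⨆ i, IY i).ideal ⟨V₁, hV₁⟩ = Ideal.ofList hs₁ := by
    rw [← (⨆ i, IY i).map_ideal (U := ⟨V₁, hV₁⟩) (V := U) hU', ← (⨆ i, IY i).ker_subschemeι_app U, hker,
      Ideal.map_ofList]
    rfl
  -- spreading out
  letI := X.presheaf.algebra_section_stalk (⟨_, hp₁⟩ : V₁)
  haveI := hV₁.isLocalization_stalk ⟨_, hp₁⟩
  haveI : IsNoetherianRing A := IsLocallyNoetherian.component_noetherian ⟨V₁, hV₁⟩
  let x₁ : A := X.presheaf.map (homOfLE (fun a ha => (hle ha).2 : (⟨V₁, hV₁⟩ : X.affineOpens).1 ≤ V.1)).op x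
  let J := Ideal.ofList hs₁
  let K : Ideal A := J.colon {x₁}
  have hK : ∀ c, c ∈ K ↔ c * x₁ ∈ J := fun c => by simp [K, Submodule.mem_colon_singleton]
  have hKp : K.map (algebraMap A (X.presheaf.stalk ((⨆ i, IY i).subschemeι.base z))) ≤
      J.map (algebraMap A (X.presheaf.stalk ((⨆ i, IY i).subschemeι.base z))) := by
    refine Ideal.map_le_iff_le_comap.2 fun c hcK => ?_
    have h := stalk_regular hreg hZD hc₁ hs₁ hJ₁ hw₁ z hp₁
      (algebraMap A (X.presheaf.stalk ((⨆ i, IY i).subschemeι.base z)) c)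
    rw [hJ₁] at h
    refine Ideal.mem_comap.2 (h ?_)
    show algebraMap A _ x₁ * algebraMap A _ c ∈ _
    rw [← map_mul, mul_comm]
    exact Ideal.mem_map_of_mem _ ((hK c).1 hcK)
  obtain ⟨t, ht, htK⟩ : ∃ t ∉ (hV₁.primeIdealOf ⟨_, hp₁⟩).asIdeal, ∀ c ∈ K, t * c ∈ J := by
    classical
    obtain ⟨S, hS⟩ := IsNoetherian.noetherian K
    choose! t ht htc using fun c (hc : c ∈ S) =>
      (IsLocalization.algebraMap_mem_map_algebraMap_iff (hV₁.primeIdealOf ⟨_, hp₁⟩).asIdeal.primeCompl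
        (X.presheaf.stalk ((⨆ i, IY i).subschemeι.base z)) J c).mp
        (hKp (Ideal.mem_map_of_mem _ (hS ▸ Ideal.subset_span hc)))
    refine ⟨∏ c ∈ S, t c, fun h => ?_, fun c hc => ?_⟩
    · obtain ⟨c, hc, hcP⟩ := (Ideal.IsPrime.prod_mem_iff).mp h
      exact ht c hc hcP
    · rw [← hS] at hc
      induction hc using Submodule.span_induction with
      | mem c hc =>
        obtain ⟨d, hd⟩ := Finset.dvd_prod_of_mem t hc
        rw [hd, mul_comm (t c), mul_assoc]
        exact Ideal.mul_mem_left _ _ (htc c hc)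
      | zero => simp
      | add x y _ _ hx hy => rw [mul_add]; exact add_mem hx hy
      | smul r x _ hx => rw [smul_eq_mul, mul_left_comm]; exact Ideal.mul_mem_left _ _ hx
  let W := X.affineBasicOpen (U := ⟨V₁, hV₁⟩) t
  have hpW : (⨆ i, IY i).subschemeι.base z ∈ X.basicOpen t := by
    rw [X.mem_basicOpen t _ hp₁]
    exact IsLocalization.map_units (X.presheaf.stalk ((⨆ i, IY i).subschemeι.base z))
      (⟨t, ht⟩ : (hV₁.primeIdealOf ⟨_, hp₁⟩).asIdeal.primeCompl)
  letI : Algebra A Γ(X, W.1) := (X.presheaf.map (homOfLE (X.basicOpen_le t)).op).hom.toAlgebra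
  haveI : IsLocalization.Away t Γ(X, W.1) := hV₁.isLocalization_basicOpen t
  haveI : Module.Flat A Γ(X, W.1) := IsLocalization.flat _ (Submonoid.powers t)
  have hJW : J.map (algebraMap A Γ(X, W.1)) = Ideal.ofList (hs₁.map (algebraMap A Γ(X, W.1))) :=
    Ideal.map_ofList _ _
  refine ⟨W, _, _, hs₁.map (algebraMap A Γ(X, W.1)), hpW, hc₁.res (V := W) (X.basicOpen_le t), ?_, ?_⟩
  · rw [← hJW, ← ideal_iSup_chart (hc₁.res (V := W) (X.basicOpen_le t)),
      ← (⨆ i, IY i).map_ideal (U := W) (V := ⟨V₁, hV₁⟩) (X.basicOpen_le t), hJ₁]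
    rfl
  · rw [isWeaklyRegular_append_iff, isWeaklyRegular_cons_iff]
    refine ⟨hw₁.of_flat, ?_, IsWeaklyRegular.nil _ _⟩
    rw [isSMulRegular_quotient_iff_mem_of_smul_mem]
    intro b hb
    simp only [smul_eq_mul, Ideal.mul_top, ← hJW] at hb ⊢
    obtain ⟨⟨d, s⟩, hds⟩ := IsLocalization.surj (Submonoid.powers t) b
    have hds' : b * algebraMap A Γ(X, W.1) s = algebraMap A Γ(X, W.1) d := hds
    have h1 : algebraMap A Γ(X, W.1) (d * x₁) ∈ J.map (algebraMap A Γ(X, W.1)) := by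
      rw [map_mul, ← hds', mul_right_comm, mul_comm b]
      exact Ideal.mul_mem_right _ _ hb
    obtain ⟨r, hr, hr'⟩ := (IsLocalization.algebraMap_mem_map_algebraMap_iff (Submonoid.powers t) Γ(X, W.1) J _).mp h1
    have h2 := Ideal.mem_map_of_mem (algebraMap A Γ(X, W.1)) (htK _ ((hK _).2 (by rwa [mul_assoc] : r * d * x₁ ∈ J)))
    rw [map_mul, map_mul, Ideal.unit_mul_mem_iff_mem _ (IsLocalization.Away.algebraMap_isUnit t),
      Ideal.unit_mul_mem_iff_mem _ (IsLocalization.map_units Γ(X, W.1) ⟨r, hr⟩), ← hds',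
      Ideal.mul_unit_mem_iff_mem _ (IsLocalization.map_units Γ(X, W.1) s)] at h2
    exact h2

end Groth.Agent.H17.KoszTwist
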