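import Groth.Agent.H17.KoszTwist.Cycles
import Mathlib

/-!
# Homology of the Koszul complex of divisors twisted by a divisor
-/

set_option autoImplicit false
set_option linter.style.haveILetI false
universe u

open CategoryTheory CategoryTheory.Limits AlgebraicGeometry Opposite TopologicalSpace exteriorPower

noncomputable section

namespace Groth.Agent.H17.KoszTwist

open Groth.Agent.H06Mod Groth.Agent.H29Omega

variable {X : Scheme.{u}} {n : ℕ} {IY : Fin n → X.IdealSheafData} {ID : X.IdealSheafData}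
  (hY : ∀ i, BlowUp.IsEffCartierIdeal (IY i)) (hD : BlowUp.IsEffCartierIdeal ID)
  (C : KoszSh.Cx (∐ fun i => ClSub.idealMod (IY i)) (Limits.Sigma.desc fun i => ClSub.idealModι (IY i)))
  (C' : KoszSh.Cx (∐ fun i => ClSub.idealMod (IY i * ID)) (Limits.Sigma.desc fun i => ClSub.idealModι (IY i * ID)))

/-- The comparison chain map with its stalks. -/
theorem exists_compare :
    ∃ φ : C'.K ⟶ C.K, ∀ {V : X.affineOpens} {g : Fin n → Γ(X, V.1)} {x : Γ(X, V.1)}, IsChart IY ID V g x →
      ∀ (p : X) (hp : p ∈ V.1) (m : ℕ),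
        IsSMulRegular ((C.K.X m).presheaf.stalk p) (X.presheaf.germ V.1 p hp x) ∧
        Function.Injective (stalkLin (φ.f m) p) ∧
        LinearMap.range (stalkLin (φ.f m) p) =
          Ideal.span {X.presheaf.germ V.1 p hp x ^ m} • (⊤ : Submodule _ ((C.K.X m).presheaf.stalk p)) := by
  obtain ⟨f, hf⟩ := exists_sumMap IY ID
  have hfs : f ≫ (Limits.Sigma.desc fun i => ClSub.idealModι (IY i)) =
      Limits.Sigma.desc fun i => ClSub.idealModι (IY i * ID) := by
    refine Limits.Sigma.hom_ext _ _ fun i => ?_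
    obtain ⟨fi, hfi, hι⟩ := hf i
    rw [← Category.assoc, hι, Category.assoc, Limits.Sigma.ι_desc, Limits.Sigma.ι_desc, hfi]
  obtain ⟨φ, hφ, -⟩ := Groth.Agent.H17.KoszSh.existsUnique_chainMap f hfs C' C
  exact ⟨φ, fun hc p hp m => chart_stalk C C' f hf m (φ.f m) (hφ m) hc hp⟩

include hY hD in
/-- The homology of the twisted complex, with the regularity hypothesis on stalks. -/
theorem nonempty_iso (q : ℕ)
    (hreg : ∀ {V : X.affineOpens} {g : Fin n → Γ(X, V.1)} {x : Γ(X, V.1)}, IsChart IY ID V g x →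
      ∀ (p : X) (hp : p ∈ V.1), IsSMulRegular ((C.K.homology q).presheaf.stalk p) (X.presheaf.germ V.1 p hp x)) :
    Nonempty (C'.K.homology q ≅ CohB1.tensorMod
      (Limits.pullback
        ((Scheme.Modules.pullback ID.subschemeι ⋙ Scheme.Modules.pushforward ID.subschemeι).map (C.K.homologyπ q))
        ((Scheme.Modules.pullbackPushforwardAdjunction ID.subschemeι).unit.app (C.K.homology q)))
      (CohB1.tensorPow (ClSub.idealMod ID) q)) := by
  obtain ⟨φ, hφ⟩ := exists_compare C C'
  have hI : PicF.IsInvertible (ClSub.idealMod ID) := H29Blow.isInvertible_of_isEffCartierIdeal ID hD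
  have hL : PicF.IsInvertible (CohB1.tensorPow (ClSub.idealMod ID) q) := H11Ample.isInvertible_tensorPow hI q
  let μ := powMult (ClSub.idealModι ID) q
  let k := (ComplexShape.down ℕ).next q
  let m := mult μ (C.K.cycles q) ≫ C.K.iCycles q
  let nn := C'.K.iCycles q ≫ φ.f q
  -- facts on a chart
  have hm : ∀ p, Function.Injective (stalkLin m p) ∧ Function.Injective (stalkLin nn p) ∧
      LinearMap.range (stalkLin nn p) = LinearMap.range (stalkLin m p) := by
    intro p
    obtain ⟨V, g, x, hp, hc⟩ := exists_chart hY hD p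
    let ξ := X.presheaf.germ V.1 p hp x
    have hgen : GenAt μ p (ξ ^ q) := genAt_powMult _ hI p ξ (genAt_idealModι hc.x_mem hc.x_span hp) q
    have hι := stalk_injective_of_mono (C.K.iCycles q) p
    obtain ⟨hξ, hφi, hφr⟩ := hφ hc p hp q
    obtain ⟨hξk, hφik, -⟩ := hφ hc p hp k
    have hξZ : IsSMulRegular ((C.K.cycles q).presheaf.stalk p) (ξ ^ q) := fun a b hab => by
      refine hι ((hξ.pow q) ?_)
      have := congrArg (stalkLin (C.K.iCycles q) p) hab
      rwa [map_smul, map_smul] at this
    have hmi : Function.Injective (stalkLin m p) := fun a b hab => by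
      rw [stalkLin_comp, stalkLin_comp] at hab
      exact injective_mult μ hL _ p _ hgen (pow_mem (germ_mem_nonZeroDivisors hc.x_mem hp) q) hξZ (hι hab)
    refine ⟨hmi, fun a b hab => ?_, le_antisymm ?_ ?_⟩
    · rw [stalkLin_comp, stalkLin_comp] at hab
      exact stalk_injective_of_mono (C'.K.iCycles q) p (hφi hab)
    · rintro _ ⟨z, rfl⟩
      obtain ⟨c, -, hc'⟩ := mem_span_smul.1 (hφr.le ⟨stalkLin (C'.K.iCycles q) p z, rfl⟩)
      have hdc : stalkLin (C.K.d q k) p c = 0 := (hξk.pow q) (by
        show ξ ^ q • stalkLin (C.K.d q k) p c = ξ ^ q • (0 : (C.K.X k).presheaf.stalk p)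
        rw [smul_zero, ← map_smul, hc', ← stalkLin_comp, φ.comm, stalkLin_comp,
          LinearMap.mem_ker.1 ((range_iCycles C'.K q p).le ⟨z, rfl⟩), map_zero])
      obtain ⟨w, hw⟩ := (range_iCycles C.K q p).ge (LinearMap.mem_ker.2 hdc)
      rw [stalk_range_comp, range_mult μ hL _ p _ hgen, stalkLin_comp, ← hc', ← hw, ← map_smul]
      exact Submodule.mem_map_of_mem (mem_span_smul.2 ⟨w, Submodule.mem_top, rfl⟩)
    · rw [stalk_range_comp, range_mult μ hL _ p _ hgen, Submodule.map_le_iff_le_comap]
      intro w hw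
      obtain ⟨w₀, -, rfl⟩ := mem_span_smul.1 hw
      obtain ⟨y, hy⟩ := hφr.ge (mem_span_smul.2 ⟨stalkLin (C.K.iCycles q) p w₀, Submodule.mem_top, rfl⟩)
      have hdy : stalkLin (C'.K.d q k) p y = 0 := hφik (by
        rw [map_zero, ← stalkLin_comp, ← φ.comm, stalkLin_comp, hy, map_smul,
          LinearMap.mem_ker.1 ((range_iCycles C.K q p).le ⟨w₀, rfl⟩), smul_zero])
      obtain ⟨z, rfl⟩ := (range_iCycles C'.K q p).ge (LinearMap.mem_ker.2 hdy)
      exact ⟨z, by rw [stalkLin_comp, hy, map_smul]⟩
  haveI : Mono m := mono_of_stalk_injective _ fun p => (hm p).1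
  haveI : Mono nn := mono_of_stalk_injective _ fun p => (hm p).2.1
  obtain ⟨e, he⟩ := exists_iso_fac m nn fun p => (hm p).2.2
  -- the quotient of `Z(-qD)`
  let c := toP (K := C.K) (ID := ID) q
  have hsc : ∀ p, Function.Surjective (stalkLin c p) := fun p => by
    obtain ⟨V, g, x, hp, hc⟩ := exists_chart hY hD p
    exact (stalk_toP q hc.x_span hp (hreg hc p hp)).1
  haveI : Epi c := epi_of_surjective_stalkLin _ hsc
  have hS : (ShortComplex.mk (kernel.ι c) c (kernel.condition c)).ShortExact :=
    { exact := ShortComplex.exact_of_f_is_kernel _ (kernelIsKernel c) }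
  have hS' := H10Coh.Tw.shortExact_seq hS hL
  let c' := e.hom ≫ LimSh.tensorModMap c (CohB1.tensorPow (ClSub.idealMod ID) q)
  haveI : Epi (LimSh.tensorModMap c (CohB1.tensorPow (ClSub.idealMod ID) q)) := H10Coh.Tw.epi_map c hL
  haveI : Epi c' := epi_comp _ _
  have hker : ∀ p, LinearMap.ker (stalkLin c' p) = LinearMap.range (stalkLin (C'.K.toCycles (q + 1) q) p) := by
    intro p
    obtain ⟨V, g, x, hp, hc⟩ := exists_chart hY hD p
    let ξ := X.presheaf.germ V.1 p hp x
    have hgen : GenAt μ p (ξ ^ q) := genAt_powMult _ hI p ξ (genAt_idealModι hc.x_mem hc.x_span hp) q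
    have hI' : Function.Injective (stalkLin nn p) := (hm p).2.1
    refine Submodule.map_injective_of_injective hI' ?_
    have h1 : (LinearMap.ker (stalkLin c' p)).map (stalkLin nn p) =
        (LinearMap.ker (stalkLin (LimSh.tensorModMap c (CohB1.tensorPow (ClSub.idealMod ID) q)) p)).map
          (stalkLin m p) := by
      ext a
      constructor
      · rintro ⟨z, hz, rfl⟩
        refine ⟨stalkLin e.hom p z, ?_, ?_⟩
        · exact ((stalkLin_comp _ _ p z).symm.trans (LinearMap.mem_ker.1 hz) :)
        · rw [← stalkLin_comp, he]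
      · rintro ⟨t, ht, rfl⟩
        obtain ⟨z, rfl⟩ := surjective_stalk_of_epi e.hom p t
        refine ⟨z, LinearMap.mem_ker.2 ((stalkLin_comp _ _ p z).trans (LinearMap.mem_ker.1 ht)), ?_⟩
        rw [← he]
        exact stalkLin_comp _ _ p z
    have h2 : (LinearMap.ker (stalkLin (LimSh.tensorModMap c (CohB1.tensorPow (ClSub.idealMod ID) q)) p)).map
        (stalkLin m p) = Ideal.span {ξ ^ (q + 1)} • LinearMap.range (stalkLin (C.K.d (q + 1) q) p) := by
      have hr : LinearMap.range (stalkLin (LimSh.tensorModMap (kernel.ι c) (CohB1.tensorPow (ClSub.idealMod ID) q)) p) =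
          LinearMap.ker (stalkLin (LimSh.tensorModMap c (CohB1.tensorPow (ClSub.idealMod ID) q)) p) :=
        range_eq_ker_of_exact _ hS'.exact p
      rw [← hr, ← stalk_range_comp,
        show LimSh.tensorModMap (kernel.ι c) (CohB1.tensorPow (ClSub.idealMod ID) q) ≫ m =
          mult μ (kernel c) ≫ kernel.ι c ≫ C.K.iCycles q from by
            rw [← Category.assoc, ← Category.assoc, ← mult_natural μ hL (kernel.ι c)],
        stalk_range_comp, range_mult μ hL _ p _ hgen, Submodule.map_smul'', Submodule.map_top,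
        stalk_range_comp, range_stalk_kernelι, (stalk_toP q hc.x_span hp (hreg hc p hp)).2, Submodule.map_smul'',
        range_toCycles_iCycles, ← Submodule.mul_smul, Ideal.span_singleton_mul_span_singleton, ← pow_succ]
    rw [h1, h2, ← stalk_range_comp,
      show C'.K.toCycles (q + 1) q ≫ nn = φ.f (q + 1) ≫ C.K.d (q + 1) q from by
        rw [← Category.assoc, C'.K.toCycles_i, φ.comm],
      stalk_range_comp, (hφ hc p hp (q + 1)).2.2, Submodule.map_smul'', Submodule.map_top]
  have hw : C'.K.toCycles (q + 1) q ≫ c' = 0 := eq_zero_of_stalkLin _ fun p a => by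
    rw [stalkLin_comp, ← LinearMap.mem_ker, hker]
    exact ⟨a, rfl⟩
  have hex : (ShortComplex.mk _ _ hw).Exact := exact_of_range_eq_ker _ fun p => (hker p).le
  exact ⟨(C'.K.homologyIsCokernel (q + 1) q (by simp)).coconePointUniqueUpToIso
    (ShortComplex.Exact.gIsCokernel hex)⟩

end Groth.Agent.H17.KoszTwist
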