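import Groth.Agent.H17.KoszTwist.Stalk
import Groth.Agent.H11Ample.Restrict
import Groth.Agent.H10Coh.TwistExact
import Groth.Prelude.Def_Omega4
import Mathlib

/-!
# Multiplication `M ⊗ L ⟶ M` by a cosection of an invertible module
-/

set_option autoImplicit false
universe u

open CategoryTheory CategoryTheory.Limits AlgebraicGeometry Opposite TopologicalSpace

noncomputable section

namespace Groth.Agent.H17.KoszTwist

open Groth.Agent.H06Mod Groth.Agent.H29Omega Groth.Agent.H11Tilde Groth.Agent.H11Ample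
open Groth.Agent.H10Coh

variable {X : Scheme.{u}} {L : X.Modules} (μ : L ⟶ Coh.structureModule X)

/-- `(m, e) ↦ μ(e) m`. -/
def multPairing (M : X.Modules) : Pairing M L M where
  toFun U m e := OmegaSh.fnSect X U (μ.app U e) • m
  add_left U m m' n := smul_add _ _ _
  smul_left U r m n := smul_comm _ _ _
  add_right U m n n' := by rw [map_add, map_add, add_smul]
  smul_right U r m n := by
    rw [μ.app_smul, show OmegaSh.fnSect X U (r • μ.app U n) = r * OmegaSh.fnSect X U (μ.app U n) from rfl, mul_smul]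
  res U V h m n := by
    rw [Scheme.Modules.map_smul, H11Tilde.app_map_apply μ h n]
    rfl

/-- Multiplication by `μ`. -/
def mult (M : X.Modules) : CohB1.tensorMod M L ⟶ M := tensorDesc (multPairing μ M)

theorem mult_tm {M : X.Modules} {U : X.Opens} (m : Γ(M, U)) (e : Γ(L, U)) :
    (mult μ M).app U (tm m e) = OmegaSh.fnSect X U (μ.app U e) • m :=
  tensorDesc_tm _ m e

theorem mult_natural (hL : PicF.IsInvertible L) {M N : X.Modules} (f : M ⟶ N) :
    LimSh.tensorModMap f L ≫ mult μ N = mult μ M ≫ f := by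
  refine Scheme.Modules.hom_ext _ _ fun W => ?_
  ext t
  refine H11Tilde.eq_of_locally _ _ fun x hx => ?_
  obtain ⟨V, hV, e, m, hxV, -, hm⟩ := Tw.exists_eq_tm hL t hx
  refine ⟨V, hV, hxV, ?_⟩
  rw [← H11Tilde.app_map_apply, ← H11Tilde.app_map_apply, hm]
  show (mult μ N).app V ((LimSh.tensorModMap f L).app V (tm m e)) = f.app V ((mult μ M).app V (tm m e))
  rw [Tw.map_tm, mult_tm, mult_tm, f.app_smul]

theorem germ_mult {M : X.Modules} {U : X.Opens} {p : X} (hp : p ∈ U) (m : Γ(M, U)) (e : Γ(L, U)) :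
    M.presheaf.germ U p hp ((mult μ M).app U (tm m e)) =
      X.presheaf.germ U p hp (OmegaSh.fnSect X U (μ.app U e)) • M.presheaf.germ U p hp m := by
  rw [mult_tm]
  exact H06Mod.germ_smul M U hp _ m

/-- The values of `μ` near `p` generate the principal ideal of `y`. -/
structure GenAt (μ : L ⟶ Coh.structureModule X) (p : X) (y : X.presheaf.stalk p) : Prop where
  mem : ∀ (V : X.Opens) (hp : p ∈ V) (e : Γ(L, V)),
    X.presheaf.germ V p hp (OmegaSh.fnSect X V (μ.app V e)) ∈ Ideal.span {y}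
  exists_eq : ∃ (V : X.Opens) (hp : p ∈ V) (e : Γ(L, V)),
    X.presheaf.germ V p hp (OmegaSh.fnSect X V (μ.app V e)) = y

theorem fnSect_res {U V : X.Opens} (h : V ≤ U) (e : Γ(L, U)) :
    OmegaSh.fnSect X V (μ.app V (L.presheaf.map (homOfLE h).op e)) =
      X.presheaf.map (homOfLE h).op (OmegaSh.fnSect X U (μ.app U e)) := by
  rw [H11Tilde.app_map_apply μ h e]
  rfl

/-- The image of multiplication. -/
theorem range_mult (hL : PicF.IsInvertible L) (M : X.Modules) (p : X) (y : X.presheaf.stalk p)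
    (hy : GenAt μ p y) :
    LinearMap.range (stalkLin (mult μ M) p) = Ideal.span {y} • (⊤ : Submodule _ (M.presheaf.stalk p)) := by
  refine le_antisymm ?_ ?_
  · rintro _ ⟨a, rfl⟩
    obtain ⟨W, hW, t, rfl⟩ := (CohB1.tensorMod M L).presheaf.exists_germ_eq a
    obtain ⟨V, hV, e, m, hpV, -, hm⟩ := Tw.exists_eq_tm hL t hW
    rw [← TopCat.Presheaf.germ_res_apply _ (homOfLE hV) p hpV, hm, stalkLin_germ, germ_mult]
    refine Submodule.smul_mem_smul ?_ Submodule.mem_top
    exact hy.mem V hpV e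
  · rw [Submodule.smul_le]
    intro r hr n _
    obtain ⟨c, rfl⟩ := Ideal.mem_span_singleton'.1 hr
    obtain ⟨U₁, hU₁, e, he⟩ := hy.exists_eq
    obtain ⟨U₂, hU₂, m, rfl⟩ := M.presheaf.exists_germ_eq n
    rw [mul_smul]
    refine Submodule.smul_mem _ c ⟨(CohB1.tensorMod M L).presheaf.germ (U₁ ⊓ U₂) p ⟨hU₁, hU₂⟩
      (tm (M.presheaf.map (homOfLE inf_le_right).op m) (L.presheaf.map (homOfLE inf_le_left).op e)), ?_⟩
    rw [stalkLin_germ, germ_mult, TopCat.Presheaf.germ_res_apply, fnSect_res, TopCat.Presheaf.germ_res_apply, he]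

/-- Multiplication by a regular cosection is injective on stalks where it is regular. -/
theorem injective_mult (hL : PicF.IsInvertible L) (M : X.Modules) (p : X) (y : X.presheaf.stalk p)
    (hy : GenAt μ p y) (hy0 : y ∈ nonZeroDivisors (X.presheaf.stalk p))
    (hM : IsSMulRegular (M.presheaf.stalk p) y) : Function.Injective (stalkLin (mult μ M) p) := by
  rw [injective_iff_map_eq_zero]
  intro a ha
  obtain ⟨W, hW, t, rfl⟩ := (CohB1.tensorMod M L).presheaf.exists_germ_eq a
  obtain ⟨V, hV, e, m, hpV, he, hm⟩ := Tw.exists_eq_tm hL t hW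
  rw [← TopCat.Presheaf.germ_res_apply _ (homOfLE hV) p hpV, hm] at ha ⊢
  rw [stalkLin_germ, germ_mult] at ha
  let r : X.presheaf.stalk p := X.presheaf.germ V p hpV (OmegaSh.fnSect X V (μ.app V e))
  have hr : r ∈ Ideal.span {y} := hy.mem V hpV e
  obtain ⟨c, hc⟩ := Ideal.mem_span_singleton'.1 hr
  obtain ⟨V₀, hp₀, e₀, he₀⟩ := hy.exists_eq
  obtain ⟨c₀, hc₀⟩ := exists_coeff (he.res (inf_le_left : V ⊓ V₀ ≤ V))
    (L.presheaf.map (homOfLE (inf_le_right : V ⊓ V₀ ≤ V₀)).op e₀)
  let s := X.presheaf.germ (V ⊓ V₀) p ⟨hpV, hp₀⟩ c₀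
  have hs : y = s * r := by
    have h := congrArg (fun w => X.presheaf.germ (V ⊓ V₀) p ⟨hpV, hp₀⟩ (OmegaSh.fnSect X _ (μ.app _ w))) hc₀
    simp only [fnSect_res, μ.app_smul] at h
    rw [TopCat.Presheaf.germ_res_apply, he₀] at h
    refine h.trans ?_
    show X.presheaf.germ _ p _ (c₀ * OmegaSh.fnSect X _ (μ.app _ _)) = _
    rw [map_mul, fnSect_res, TopCat.Presheaf.germ_res_apply]
  have hsc : s * c = 1 := by
    have h2 : (s * c - 1) * y = 0 := by
      rw [sub_mul, one_mul, mul_assoc, hc, ← hs, sub_self]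
    exact sub_eq_zero.1 ((mem_nonZeroDivisors_iff_right.1 hy0) _ h2)
  have hm0 : M.presheaf.germ V p hpV m = 0 := by
    have h3 : y • M.presheaf.germ V p hpV m = y • (0 : M.presheaf.stalk p) := by
      rw [smul_zero, hs, mul_smul]
      exact (congrArg (s • ·) ha).trans (smul_zero s)
    exact hM h3
  obtain ⟨V', hpV', i, j, hij⟩ := M.presheaf.germ_eq p hpV hpV m 0 (hm0.trans (map_zero _).symm)
  rw [map_zero] at hij
  rw [← TopCat.Presheaf.germ_res_apply _ i p hpV', show i = homOfLE (leOfHom i) from rfl, tm_res,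
    show M.presheaf.map (homOfLE (leOfHom i)).op m = 0 from hij, tm_zero_left, map_zero]

/-- The tensor powers of a cosection. -/
def powMult : ∀ n : ℕ, CohB1.tensorPow L n ⟶ Coh.structureModule X
  | 0 => 𝟙 _
  | n + 1 => mult μ (CohB1.tensorPow L n) ≫ powMult n

theorem genAt_powMult (hL : PicF.IsInvertible L) (p : X) (y : X.presheaf.stalk p) (hy : GenAt μ p y) :
    ∀ n, GenAt (powMult μ n) p (y ^ n)
  | 0 => ⟨fun _ _ _ => by rw [pow_zero, Ideal.span_singleton_one]; trivial,
      ⟨⊤, trivial, one ⊤, by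
        show X.presheaf.germ ⊤ p trivial (1 : Γ(X, ⊤)) = _
        rw [map_one, pow_zero]⟩⟩
  | n + 1 => by
    have ih := genAt_powMult hL p y hy n
    have happ : ∀ (V : X.Opens) (hp : p ∈ V) (m : Γ(CohB1.tensorPow L n, V)) (e : Γ(L, V)),
        X.presheaf.germ V p hp (OmegaSh.fnSect X V ((powMult μ (n + 1)).app V (tm m e))) =
          X.presheaf.germ V p hp (OmegaSh.fnSect X V (μ.app V e)) *
            X.presheaf.germ V p hp (OmegaSh.fnSect X V ((powMult μ n).app V m)) := by
      intro V hp m e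
      show X.presheaf.germ V p hp (OmegaSh.fnSect X V
        ((powMult μ n).app V ((mult μ (CohB1.tensorPow L n)).app V (tm m e)))) = _
      rw [mult_tm, (powMult μ n).app_smul, ← map_mul]
      rfl
    refine ⟨fun W hW t => ?_, ?_⟩
    · obtain ⟨V, hV, e, m, hpV, -, hm⟩ := Tw.exists_eq_tm hL (t : Γ(CohB1.tensorMod (CohB1.tensorPow L n) L, W)) hW
      rw [← TopCat.Presheaf.germ_res_apply X.presheaf (homOfLE hV) p hpV, ← fnSect_res]
      erw [hm]
      rw [happ, pow_succ', ← Ideal.span_singleton_mul_span_singleton]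
      exact Ideal.mul_mem_mul (hy.mem V hpV e) (ih.mem V hpV m)
    · obtain ⟨U₁, h₁, e, he⟩ := hy.exists_eq
      obtain ⟨U₂, h₂, m, hm⟩ := ih.exists_eq
      refine ⟨U₁ ⊓ U₂, ⟨h₁, h₂⟩, tm ((CohB1.tensorPow L n).presheaf.map (homOfLE inf_le_right).op m)
        (L.presheaf.map (homOfLE inf_le_left).op e), ?_⟩
      rw [happ, fnSect_res, fnSect_res, TopCat.Presheaf.germ_res_apply, TopCat.Presheaf.germ_res_apply, he, hm, pow_succ']

end Groth.Agent.H17.KoszTwist
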