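import Groth.Agent.H17.KoszTwist.Unit
import Groth.Agent.H17.KoszTwist.Cycles
import Groth.Agent.H17.KoszTwist.KoszReg
import Groth.Agent.H17.KoszSh.Resolution
import Groth.Agent.H13CInt.Spread
import Mathlib

/-!
# Regularity on Koszul homology for a locally complete intersection
-/

set_option autoImplicit false
set_option linter.style.haveILetI false
universe u

open CategoryTheory CategoryTheory.Limits AlgebraicGeometry Opposite TopologicalSpace RingTheory.Sequence

noncomputable section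

namespace Groth.Agent.H17.KoszTwist

open Groth.Agent.H06Mod Groth.Agent.H29Omega

variable {X : Scheme.{u}} {n : ℕ} {IY : Fin n → X.IdealSheafData} {ID : X.IdealSheafData}
  (C : KoszSh.Cx (∐ fun i => ClSub.idealMod (IY i)) (Limits.Sigma.desc fun i => ClSub.idealModι (IY i)))

/-- A chart on which the intersection is cut out by a regular sequence, with `x` regular modulo it. -/
structure IsRegChart (V : X.affineOpens) (g : Fin n → Γ(X, V.1)) (x : Γ(X, V.1)) (hs : List Γ(X, V.1)) : Prop where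
  chart : IsChart IY ID V g x
  span_eq : Ideal.ofList hs = Ideal.span (Set.range g)
  regular : IsWeaklyRegular Γ(X, V.1) (hs ++ [x])

theorem IsRegChart.res {U V : X.affineOpens} {g : Fin n → Γ(X, U.1)} {x : Γ(X, U.1)} {hs : List Γ(X, U.1)}
    (hc : IsRegChart (IY := IY) (ID := ID) U g x hs) (h : V.1 ≤ U.1) :
    IsRegChart (IY := IY) (ID := ID) V (fun i => X.presheaf.map (homOfLE h).op (g i))
      (X.presheaf.map (homOfLE h).op x) (hs.map (X.presheaf.map (homOfLE h).op)) := by
  letI : Algebra Γ(X, U.1) Γ(X, V.1) := (X.presheaf.map (homOfLE h).op).hom.toAlgebra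
  haveI : Module.Flat Γ(X, U.1) Γ(X, V.1) := by
    have hfl := Scheme.Hom.flat_appLE (𝟙 X) U.2 V.2 h
    simp only [Scheme.Hom.appLE, Scheme.Hom.id_app] at hfl
    exact hfl
  refine ⟨hc.chart.res h, ?_, ?_⟩
  · refine (Ideal.map_ofList (X.presheaf.map (homOfLE h).op).hom hs).symm.trans ?_
    rw [hc.span_eq, Ideal.map_span, ← Set.range_comp]
    rfl
  · have := hc.regular.of_flat (S := Γ(X, V.1))
    rw [List.map_append] at this
    exact this

theorem mem_of_regular_concat {R : Type u} [CommRing R] {hs : List R} {x a : R}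
    (h : IsWeaklyRegular R (hs ++ [x])) (ha : x * a ∈ Ideal.ofList hs) : a ∈ Ideal.ofList hs := by
  rw [isWeaklyRegular_append_iff, isWeaklyRegular_cons_iff] at h
  have h2 := isSMulRegular_quotient_iff_mem_of_smul_mem _ _ |>.1 h.2.1 a
  simp only [smul_eq_mul, Ideal.mul_top] at h2
  exact h2 ha

/-- On a regular chart, a cycle whose `x`-multiple is a boundary is a boundary. -/
theorem sections_regular {V : X.affineOpens} {g : Fin n → Γ(X, V.1)} {x : Γ(X, V.1)} {hs : List Γ(X, V.1)}
    (hc : IsRegChart (IY := IY) (ID := ID) V g x hs) (q : ℕ) (s : Γ(C.K.X q, V.1))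
    (hds : (C.K.d q ((ComplexShape.down ℕ).next q)).app V.1 s = 0) (t : Γ(C.K.X (q + 1), V.1))
    (ht : (C.K.d (q + 1) q).app V.1 t = x • s) :
    ∃ t', (C.K.d (q + 1) q).app V.1 t' = s := by
  classical
  choose e he heb using fun i => exists_gen_sections (IY i) V (hc.chart.g_mem i) (hc.chart.g_span i)
  obtain ⟨b, hb⟩ := exists_sigma_basis (fun i => ClSub.idealMod (IY i)) V.1 e heb
  let φ := KoszSh.secForm (Limits.Sigma.desc fun i => ClSub.idealModι (IY i)) V.1
  have hφb : ∀ i, φ (b i) = g i := fun i => by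
    rw [hb, ← he i]
    show OmegaSh.fnSect X V.1 ((Limits.Sigma.ι (fun i => ClSub.idealMod (IY i)) i ≫
      Limits.Sigma.desc fun i => ClSub.idealModι (IY i)).app V.1 (e i)) = _
    rw [Limits.Sigma.ι_desc]
    rfl
  have hrange : LinearMap.range φ = Ideal.ofList hs := by
    rw [hc.span_eq, LinearMap.range_eq_map, ← b.span_eq, Submodule.map_span, ← Set.range_comp]
    exact congrArg (fun f => Submodule.span _ (Set.range f)) (funext hφb)
  have hd0 : Groth.Agent.H17.KoszSh.contract φ (C.loc q V s : ExteriorAlgebra Γ(X, V.1) Γ(∐ fun i => ClSub.idealMod (IY i), V.1)) = 0 := by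
    rcases q with - | q
    · have h0 : (C.loc 0 V s : ExteriorAlgebra Γ(X, V.1) Γ(∐ fun i => ClSub.idealMod (IY i), V.1)) ∈
          Groth.Agent.H17.KoszSh.deg (⊤ : Submodule Γ(X, V.1) Γ(∐ fun i => ClSub.idealMod (IY i), V.1)) 0 := by
        rw [Groth.Agent.H17.KoszSh.deg, Submodule.map_top]
        exact (C.loc 0 V s).2
      obtain ⟨r, hr⟩ := Groth.Agent.H17.KoszSh.mem_deg_zero_iff.1 h0
      rw [← hr]
      exact Groth.Agent.H17.KoszSh.contract_algebraMap φ r
    · rw [← Groth.Agent.H17.KoszSh.loc_d C q V s]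
      have hn : (ComplexShape.down ℕ).next (q + 1) = q := by simp
      rw [hn] at hds
      rw [hds, map_zero, Submodule.coe_zero]
  obtain ⟨w', hw', hw'y⟩ := koszul_regular b φ (fun k => hs.get k) x (by
      rw [hrange, Ideal.ofList, Set.range_list_get])
    (by rw [List.ofFn_get]; exact ((isWeaklyRegular_append_iff _ _ _).1 hc.regular).1)
    (fun a ha => by
      rw [hrange] at ha ⊢
      exact mem_of_regular_concat hc.regular ha) q _ _ (C.loc q V s).2 hd0 (C.loc (q + 1) V t).2 (by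
      rw [← Groth.Agent.H17.KoszSh.loc_d C q V t, ht, map_smul, Submodule.coe_smul])
  refine ⟨(C.loc (q + 1) V).symm ⟨w', hw'⟩, (C.loc q V).injective (Subtype.ext ?_)⟩
  rw [Groth.Agent.H17.KoszSh.loc_d, LinearEquiv.apply_symm_apply]
  exact hw'y

/-- Regularity on the stalk of homology. -/
theorem regular_stalk {V : X.affineOpens} {g : Fin n → Γ(X, V.1)} {x : Γ(X, V.1)} {hs : List Γ(X, V.1)}
    (hc : IsRegChart (IY := IY) (ID := ID) V g x hs) {p : X} (hp : p ∈ V.1) (q : ℕ) :
    IsSMulRegular ((C.K.homology q).presheaf.stalk p) (X.presheaf.germ V.1 p hp x) := by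
  intro a c hac
  refine sub_eq_zero.1 ?_
  obtain ⟨z, hz⟩ := surjective_homologyπ C.K q p (a - c)
  have hξz : X.presheaf.germ V.1 p hp x • z ∈ LinearMap.range (stalkLin (C.K.toCycles (q + 1) q) p) := by
    rw [range_toCycles, LinearMap.mem_ker, map_smul, hz, smul_sub, sub_eq_zero]
    exact hac
  obtain ⟨w, hw⟩ := hξz
  suffices h : z ∈ LinearMap.range (stalkLin (C.K.toCycles (q + 1) q) p) by
    rw [← hz]
    exact LinearMap.mem_ker.1 ((range_toCycles C.K q p).le h)
  -- representatives on a small affine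
  let z₀ := stalkLin (C.K.iCycles q) p z
  have hd : stalkLin (C.K.d q ((ComplexShape.down ℕ).next q)) p z₀ = 0 :=
    LinearMap.mem_ker.1 ((range_iCycles C.K q p).le ⟨z, rfl⟩)
  have hw0 : stalkLin (C.K.d (q + 1) q) p w = X.presheaf.germ V.1 p hp x • z₀ := by
    rw [← C.K.toCycles_i, stalkLin_comp, hw, map_smul]
  obtain ⟨W₁, hW₁, s, hs₁⟩ := (C.K.X q).presheaf.exists_germ_eq z₀
  obtain ⟨W₂, hW₂, t, ht₂⟩ := (C.K.X (q + 1)).presheaf.exists_germ_eq w
  let W := W₁ ⊓ W₂ ⊓ V.1
  have hpW : p ∈ W := ⟨⟨hW₁, hW₂⟩, hp⟩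
  let s' := (C.K.X q).presheaf.map (homOfLE (inf_le_left.trans inf_le_left : W ≤ W₁)).op s
  let t' := (C.K.X (q + 1)).presheaf.map (homOfLE (inf_le_left.trans inf_le_right : W ≤ W₂)).op t
  let x' := X.presheaf.map (homOfLE (inf_le_right : W ≤ V.1)).op x
  have hs' : (C.K.X q).presheaf.germ W p hpW s' = z₀ :=
    (TopCat.Presheaf.germ_res_apply _ _ p hpW s).trans hs₁
  have e1 : (C.K.X ((ComplexShape.down ℕ).next q)).presheaf.germ W p hpW
      ((C.K.d q ((ComplexShape.down ℕ).next q)).app W s') =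
      (C.K.X ((ComplexShape.down ℕ).next q)).presheaf.germ W p hpW 0 := by
    rw [← stalkLin_germ _ p W hpW, hs', hd, map_zero]
  have e2 : (C.K.X q).presheaf.germ W p hpW ((C.K.d (q + 1) q).app W t') =
      (C.K.X q).presheaf.germ W p hpW (x' • s') := by
    rw [← stalkLin_germ _ p W hpW, H06Mod.germ_smul, hs']
    simp only [x', t', TopCat.Presheaf.germ_res_apply]
    rw [ht₂, hw0]
  obtain ⟨A₁, hA₁, i₁, i₁', hA₁'⟩ := (C.K.X _).presheaf.germ_eq p hpW hpW _ _ e1
  obtain ⟨A₂, hA₂, i₂, i₂', hA₂'⟩ := (C.K.X q).presheaf.germ_eq p hpW hpW _ _ e2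
  obtain ⟨V', hV', hpV', hle⟩ := exists_isAffineOpen_mem_and_subset (x := p) (U := A₁ ⊓ A₂) ⟨hA₁, hA₂⟩
  have l₁ : V' ≤ A₁ := fun a ha => (hle ha).1
  have l₂ : V' ≤ A₂ := fun a ha => (hle ha).2
  have lW : V' ≤ W := l₁.trans (leOfHom i₁)
  have hVV : (⟨V', hV'⟩ : X.affineOpens).1 ≤ V.1 := lW.trans inf_le_right
  have r1 : (C.K.d q ((ComplexShape.down ℕ).next q)).app V' ((C.K.X q).presheaf.map (homOfLE lW).op s') = 0 := by
    rw [H11Tilde.app_map_apply]
    have := congrArg ((C.K.X _).presheaf.map (homOfLE l₁).op) hA₁'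
    simp only [map_zero, ← ConcreteCategory.comp_apply, Category.assoc, ← Functor.map_comp, ← op_comp] at this
    exact this
  have r2 : (C.K.d (q + 1) q).app V' ((C.K.X (q + 1)).presheaf.map (homOfLE lW).op t') =
      X.presheaf.map (homOfLE hVV).op x • (C.K.X q).presheaf.map (homOfLE lW).op s' := by
    rw [H11Tilde.app_map_apply]
    have h2 := congrArg ((C.K.X q).presheaf.map (homOfLE l₂).op) hA₂'
    simp only [← ConcreteCategory.comp_apply, Category.assoc, ← Functor.map_comp, ← op_comp] at h2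
    refine h2.trans ?_
    rw [show homOfLE l₂ ≫ i₂' = homOfLE lW from rfl, Scheme.Modules.map_smul]
    refine congrArg (· • _) ?_
    simp only [x', ← ConcreteCategory.comp_apply, ← Functor.map_comp, ← op_comp]
    rfl
  obtain ⟨u, hu⟩ := sections_regular C (hc.res hVV) q _ r1 _ r2
  refine ⟨(C.K.X (q + 1)).presheaf.germ V' p hpV' u, stalk_injective_of_mono (C.K.iCycles q) p ?_⟩
  rw [← stalkLin_comp, C.K.toCycles_i, stalkLin_germ, hu, TopCat.Presheaf.germ_res_apply, hs']

end Groth.Agent.H17.KoszTwist
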